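import Cfsg.Agent.Lib.Coprime.LBalance.Main
import Cfsg.Agent.Lib.Walter.Rank.Transfer

/-!
# Perfect covers of components

A perfect group with an odd kernel over a quasisimple group, mapped subnormally into the centralizer of an
involution of a group without odd core, lands in the layer.
-/

set_option autoImplicit false
set_option linter.style.haveILetI false

namespace CfsgLib.Gold

open Subgroup
open scoped commutatorElement

universe u

/-- The normal subgroups of a perfect extension of a quasisimple group by a group of odd order. -/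
theorem normal_cases {Γ : Type u} [Group Γ] [Finite Γ] {K : Type u} [Group K] [Finite K]
    (hK : Cfsg.IsQuasisimple K) (hperf : commutator Γ = ⊤) (γ : Γ →* K) (hγ : Function.Surjective γ)
    (hodd : ¬ 2 ∣ Nat.card γ.ker) (N : Subgroup Γ) [N.Normal] :
    N = ⊤ ∨ (N.map γ ≤ center K ∧ Group.IsSolvable N ∧ ¬ 2 ∣ Nat.card ↥⁅N, (⊤ : Subgroup Γ)⁆) := by
  haveI : (N.map γ).Normal := Subgroup.Normal.map inferInstance γ hγ
  rcases CfsgLib.Coprime.subnormal_eq_top_or_le_center hK (Normal.isSubnormal (inferInstance : (N.map γ).Normal))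
    with h | h
  · refine Or.inl (top_unique ?_)
    haveI : Group.IsSolvable γ.ker := CfsgLib.FT.isSolvable_of_odd _ (Nat.odd_iff.2 (Nat.two_dvd_ne_zero.1 hodd))
    refine CfsgLib.Walter.Rank.perfect_le_of_sup_solvable hperf (A := γ.ker) inferInstance
      (by rw [normalizer_eq_top N]; exact le_top) fun a _ => ?_
    obtain ⟨n, hn, e⟩ := (show γ a ∈ N.map γ by rw [h]; exact mem_top _)
    have h1 : a * n⁻¹ ∈ γ.ker := by rw [MonoidHom.mem_ker, map_mul, map_inv, e, mul_inv_cancel]
    rw [show a = a * n⁻¹ * n by group]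
    exact mul_mem_sup h1 hn
  · refine Or.inr ⟨h, ?_, fun h2 => hodd (h2.trans (card_dvd_of_le ?_))⟩
    · haveI : Group.IsSolvable γ.ker :=
        CfsgLib.FT.isSolvable_of_odd _ (Nat.odd_iff.2 (Nat.two_dvd_ne_zero.1 hodd))
      haveI : Group.IsSolvable (N.map γ) := CfsgLib.Coprime.isSolvable_of_isMulCommutative
        (isMulCommutative_iff.2 fun a b => Subtype.ext (mem_center_iff.1 (h b.2) a))
      haveI : Group.IsSolvable ↥(γ.ker ⊓ N) := Group.isSolvable_of_isSolvable_injective
        (f := inclusion (inf_le_left : γ.ker ⊓ N ≤ γ.ker)) (inclusion_injective _)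
      exact Group.isSolvable_of_ker_le_range (inclusion (inf_le_right : γ.ker ⊓ N ≤ N)) (γ.subgroupMap N)
        fun z hz => ⟨⟨z, congrArg Subtype.val hz, z.2⟩, rfl⟩
    · refine commutator_le.2 fun n hn a _ => ?_
      rw [MonoidHom.mem_ker, map_commutatorElement, commutatorElement_eq_one_iff_mul_comm]
      exact (mem_center_iff.1 (h (mem_map_of_mem γ hn)) (γ a)).symm

variable {X : Type u} [Group X] [Finite X]

/-- Perfect subnormal covers in the centralizer of an involution lie in the layer. -/
theorem range_le_layer (hO : Cfsg.pPrimeCore 2 X = ⊥) {x : X} (hx : x * x = 1)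
    {Γ : Type u} [Group Γ] [Finite Γ] (φ : Γ →* centralizer ({x} : Set X)) (hperf : commutator Γ = ⊤)
    (hs : φ.range.IsSubnormal)
    (hN : ∀ N : Subgroup Γ, N.Normal → N = ⊤ ∨ ¬ 2 ∣ Nat.card ↥⁅N, (⊤ : Subgroup Γ)⁆) :
    φ.range.map (centralizer ({x} : Set X)).subtype ≤ Cfsg.layer X := by
  haveI := Fact.mk Nat.prime_two
  set J := φ.range with hJ
  have hJp : ⁅J, J⁆ = J := by
    rw [hJ, MonoidHom.range_eq_map, ← map_commutator]
    exact congrArg _ hperf
  set π := QuotientGroup.mk' (Cfsg.pPrimeCore 2 ↥(centralizer ({x} : Set X))) with hπ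
  haveI hOn : (Cfsg.pPrimeCore 2 ↥(centralizer ({x} : Set X))).Normal := inferInstance
  have hsol : Group.IsSolvable (Cfsg.pPrimeCore 2 ↥(centralizer ({x} : Set X))) :=
    CfsgLib.FT.isSolvable_of_odd _ (Nat.odd_iff.2 (Nat.two_dvd_ne_zero.1
      (CfsgLib.Coprime.pPrimeCore_not_dvd Nat.prime_two)))
  have hle : J ≤ Cfsg.pLayer 2 ↥(centralizer ({x} : Set X)) := by
    by_cases hne : J.map π = ⊥
    · rw [Subgroup.map_eq_bot_iff, QuotientGroup.ker_mk'] at hne
      refine (CfsgLib.Walter.Rank.perfect_le_of_sup_solvable hJp hsol (N := ⊥)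
        (by rw [normalizer_eq_top (⊥ : Subgroup ↥(centralizer ({x} : Set X)))]; exact le_top) (by rwa [sup_bot_eq])).trans bot_le
    set Q := J.map π
    have hQs : Q.IsSubnormal := hs.map (QuotientGroup.mk'_surjective _)
    haveI : Nontrivial Q := (nontrivial_iff_ne_bot Q).2 hne
    haveI : Group.IsPerfect Q := Subgroup.isPerfect_iff.2 (by rw [← map_commutator, hJp])
    let ψ : Γ →* Q := (π.subgroupMap J).comp φ.rangeRestrict
    have hψ : Function.Surjective ψ :=
      (π.subgroupMap_surjective J).comp φ.rangeRestrict_surjective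
    have hQq : Cfsg.IsQuasisimple Q := CfsgLib.Coprime.isQuasisimple_of_normal_le_center fun N hNn => by
      haveI := hNn
      rcases hN (N.comap ψ) inferInstance with h1 | h1
      · exact Or.inl (by rw [← map_comap_eq_self_of_surjective hψ N, h1, map_top_of_surjective ψ hψ])
      refine Or.inr fun n hn => ?_
      obtain ⟨m, rfl⟩ := hψ n
      refine mem_center_iff.2 fun k => ?_
      obtain ⟨a, rfl⟩ := hψ k
      set c := (⁅N.comap ψ, (⊤ : Subgroup Γ)⁆).map ψ
      have hc : c.map Q.subtype = ⊥ := by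
        refine le_bot_iff.1 ((CfsgLib.Coprime.pPrimeCore_quotient_eq_bot (G := ↥(centralizer ({x} : Set X))) Nat.prime_two) ▸
          CfsgLib.Coprime.le_pPrimeCore_of_isSubnormal Nat.prime_two
            ((CfsgLib.Coprime.isSubnormal_map_subtype_iff hQs _).2
              (Normal.isSubnormal (Subgroup.Normal.map inferInstance ψ hψ)))
            (Nat.coprime_comm.1 (Nat.prime_two.coprime_iff_not_dvd.2 fun h2 => h1 (h2.trans ?_))))
        rw [card_map_of_injective Q.subtype_injective]
        exact card_map_dvd _ ψ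
      rw [Subgroup.map_eq_bot_iff, ker_subtype, le_bot_iff] at hc
      have h3 : ψ ⁅m, a⁆ = 1 := Subgroup.mem_bot.1 (hc ▸
        mem_map_of_mem ψ (commutator_mem_commutator (show m ∈ N.comap ψ from hn) (mem_top a)))
      rw [map_commutatorElement, commutatorElement_eq_one_iff_mul_comm] at h3
      exact h3.symm
    have hQ : Cfsg.IsComponent Q := ⟨hQs, hQq⟩
    have hP := CfsgLib.Coprime.isPComponent_pComponentOver (p := 2) hQ
    refine le_trans ?_ (CfsgLib.Coprime.pComponent_le_pLayer hP)
    refine CfsgLib.Walter.Rank.perfect_le_of_sup_solvable hJp hsol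
      (CfsgLib.Coprime.pPrimeCore_le_normalizer_pComponent hP) fun a ha => ?_
    obtain ⟨b, hb, e⟩ := (CfsgLib.Coprime.map_pComponentOver hQ).ge (mem_map_of_mem π ha)
    have h1 : a * b⁻¹ ∈ Cfsg.pPrimeCore 2 ↥(centralizer ({x} : Set X)) := by
      rw [← QuotientGroup.eq_one_iff]
      show π (a * b⁻¹) = 1
      rw [map_mul, map_inv, e, mul_inv_cancel]
    rw [show a = a * b⁻¹ * b by group]
    exact mul_mem_sup h1 hb
  have hL := CfsgLib.Coprime.lBalance_two (zpowers x)
    (CfsgLib.Coprime.isPGroup_zpowers (k := 1) (by rw [pow_one, pow_two, hx]))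
  rw [zpowers_eq_closure, centralizer_closure] at hL
  exact ((map_mono hle).trans hL).trans (CfsgLib.Coprime.pLayer_eq_layer hO).le

end CfsgLib.Gold
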