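import Cfsg.Agent.Lib.Goldschmidt.Comp.Center
import Cfsg.Agent.Lib.CFun.OddZgroupLength

/-!
# The traces of a met component in `A`

`R` is the trace of the centralizer of the component and `V` that of the component: `A = RV`, `R ⊓ V` lies
over the centre of the component, and an element of `N(A) ⊓ C(y)` fixes `R` pointwise and is transitive
on the nontrivial cosets of `R ⊓ V` in `V`.
-/

set_option autoImplicit false
set_option linter.style.haveILetI false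

namespace CfsgLib.Gold

open Subgroup
open CfsgLib.Walter.Rank (CQ proj pre mem_pre mem_pre_iff pre_le cq_core)

universe u

variable {G : Type u} [Group G] [Finite G] {S : Sylow 2 G} {A : Subgroup G}

/-- The trace in `A` of the centralizer of a component. -/
def RK (A : Subgroup G) (y : G) (K : Subgroup (CQ y)) : Subgroup G :=
  pre y (centralizer (K : Set (CQ y))) ⊓ A

/-- The trace in `A` of a component. -/
def VK (A : Subgroup G) (y : G) (K : Subgroup (CQ y)) : Subgroup G :=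
  pre y K ⊓ A

namespace Setting

variable (h : Setting S A) (hF : FormModelStmt.{u}) {y : G}
include h

theorem mem_RK {y : G} (hy : y ∈ A) {K : Subgroup (CQ y)} {a : G} (ha : a ∈ A) :
    a ∈ RK A y K ↔ proj y ⟨a, h.mem_centralizer hy ha⟩ ∈ centralizer (K : Set (CQ y)) :=
  ⟨fun hm => (mem_pre_iff _).1 hm.1, fun hm => ⟨(mem_pre_iff _).2 hm, ha⟩⟩

theorem mem_VK {y : G} (hy : y ∈ A) {K : Subgroup (CQ y)} {a : G} (ha : a ∈ A) :
    a ∈ VK A y K ↔ proj y ⟨a, h.mem_centralizer hy ha⟩ ∈ K :=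
  ⟨fun hm => (mem_pre_iff _).1 hm.1, fun hm => ⟨(mem_pre_iff _).2 hm, ha⟩⟩

theorem self_mem_RK {y : G} (hy : y ∈ A) (K : Subgroup (CQ y)) : y ∈ RK A y K := by
  refine (h.mem_RK hy hy).2 (mem_centralizer_iff.2 fun k _ => ?_)
  obtain ⟨⟨g, hg⟩, rfl⟩ := QuotientGroup.mk'_surjective _ k
  rw [← map_mul, ← map_mul]
  exact congrArg _ (Subtype.ext (mem_centralizer_singleton_iff.1 hg))

theorem RK_ne_top {y : G} (hy : y ∈ A) {K : Subgroup (CQ y)}
    (hm : ¬ img A y ≤ centralizer (K : Set (CQ y))) : RK A y K ≠ A := by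
  intro e
  refine hm fun x hx => ?_
  obtain ⟨a, ha, rfl⟩ := (h.mem_img_iff hy).1 hx
  exact (h.mem_RK hy ha).1 (e.symm ▸ ha)

theorem isMet_of_RK_ne {y : G} (hy : y ∈ A) {K : Subgroup (CQ y)} (hK : Cfsg.IsComponent K)
    (hne : RK A y K ≠ A) : IsMet A y K := by
  refine ⟨hK, fun hle => hne (le_antisymm inf_le_right fun a ha => ?_)⟩
  exact (h.mem_RK hy ha).2 (hle (h.proj_mem_img hy ha))

include hF

theorem exists_mul (hy : y ∈ A) (ho : orderOf y = 2) {K : Subgroup (CQ y)} (hK : Cfsg.IsComponent K)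
    {a : G} (ha : a ∈ A) : ∃ r ∈ RK A y K, ∃ v ∈ VK A y K, r * v = a := by
  obtain ⟨P, hL⟩ := h.exists_loc hF hy ho
  obtain ⟨w, hw, hwc⟩ := hL.split hK (h.proj_mem_img hy ha)
  obtain ⟨v, hv, rfl⟩ := (h.mem_img_iff hy).1 hw.1
  refine ⟨a * v⁻¹, (h.mem_RK hy (mul_mem ha (inv_mem hv))).2 ?_, v, (h.mem_VK hy hv).2 hw.2,
    inv_mul_cancel_right a v⟩
  rwa [← map_inv, ← map_mul] at hwc

theorem RK_sup_VK (hy : y ∈ A) (ho : orderOf y = 2) {K : Subgroup (CQ y)} (hK : Cfsg.IsComponent K) :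
    RK A y K ⊔ VK A y K = A := by
  refine le_antisymm (sup_le inf_le_right inf_le_right) fun a ha => ?_
  obtain ⟨r, hr, v, hv, rfl⟩ := h.exists_mul hF hy ho hK ha
  exact mul_mem_sup hr hv

theorem VK_ne_bot (hy : y ∈ A) (ho : orderOf y = 2) {K : Subgroup (CQ y)} (hK : IsMet A y K) :
    VK A y K ≠ ⊥ := by
  intro e
  refine h.RK_ne_top hy hK.2 ?_
  have := h.RK_sup_VK hF hy ho hK.1
  rwa [e, sup_bot_eq] at this

theorem isPairAt_of_met (hy : y ∈ A) (ho : orderOf y = 2) {K : Subgroup (CQ y)} (hK : IsMet A y K) :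
    IsPairAt A y (RK A y K) (VK A y K) :=
  ⟨⟨hy, ho, K, hK.1, rfl, rfl⟩, h.VK_ne_bot hF hy ho hK, h.RK_ne_top hy hK.2⟩

omit hF in
theorem exists_met_of_isPairAt {y : G} {R V : Subgroup G} (hp : IsPairAt A y R V) :
    ∃ K : Subgroup (CQ y), IsMet A y K ∧ R = RK A y K ∧ V = VK A y K := by
  obtain ⟨⟨hy, -, K, hK, rfl, rfl⟩, -, hne⟩ := hp
  exact ⟨K, h.isMet_of_RK_ne hy hK hne, rfl, rfl⟩

omit hF in
theorem inf_mem_center {y : G} (hy : y ∈ A) {K : Subgroup (CQ y)} {a : G}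
    (hR : a ∈ RK A y K) (hV : a ∈ VK A y K) :
    (⟨proj y ⟨a, h.mem_centralizer hy hR.2⟩, (h.mem_VK hy hR.2).1 hV⟩ : K) ∈ center K :=
  mem_center_iff.2 fun k => Subtype.ext (mem_centralizer_iff.1 ((h.mem_RK hy hR.2).1 hR) k k.2)

omit hF in
theorem inf_eq_bot_of_center {y : G} (hy : y ∈ A) {K : Subgroup (CQ y)} (hc : center K = ⊥) :
    RK A y K ⊓ VK A y K = ⊥ := by
  refine (Subgroup.eq_bot_iff_forall _).2 fun a ⟨hR, hV⟩ => ?_
  have h1 := h.inf_mem_center hy hR hV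
  rw [hc, Subgroup.mem_bot] at h1
  exact h.eq_one_of_proj hR.2 _ (congrArg Subtype.val h1)

omit hF in
theorem mem_inf_of_center {y : G} (hy : y ∈ A) {K : Subgroup (CQ y)} {a : G} (ha : a ∈ A) {z : K}
    (hz : z ∈ center K) (e : proj y ⟨a, h.mem_centralizer hy ha⟩ = z) : a ∈ RK A y K ⊓ VK A y K := by
  refine ⟨(h.mem_RK hy ha).2 (e ▸ mem_centralizer_iff.2 fun k hk => ?_), (h.mem_VK hy ha).2 (e ▸ z.2)⟩
  exact congrArg Subtype.val (mem_center_iff.1 hz ⟨k, hk⟩)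

/-- The quotient data of a met component: `V` maps onto the elements of order at most two of the Sylow
subgroup of the simple quotient, and the kernel is `R ⊓ V`. -/
theorem exists_quot (hy : y ∈ A) (ho : orderOf y = 2) {K : Subgroup (CQ y)} (hK : IsMet A y K) :
    ∃ (P : Sylow 2 (CQ y)) (T : Sylow 2 K), Loc P (img A y) ∧
      (∀ x : K, x ∈ (T : Subgroup K) ↔ (x : CQ y) ∈ (P : Subgroup (CQ y))) ∧
      Model (K ⧸ center K) ((T : Subgroup K).map (QuotientGroup.mk' (center K))) ∧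
      Nat.card (VK A y K) =
        Nat.card {x : K ⧸ center K // x ∈ (T : Subgroup K).map (QuotientGroup.mk' (center K)) ∧ x * x = 1} *
          Nat.card ↥(RK A y K ⊓ VK A y K) := by
  obtain ⟨P, hL⟩ := h.exists_loc hF hy ho
  obtain ⟨T, hT, hM, hcov⟩ := hL.met_spec hK.1 hK.2
  refine ⟨P, T, hL, hT, hM, ?_⟩
  set q := QuotientGroup.mk' (center K)
  let f : VK A y K →* K ⧸ center K := q.comp
    (((proj y).comp (Subgroup.inclusion (show VK A y K ≤ centralizer ({y} : Set G) from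
      inf_le_left.trans (pre_le y K)))).codRestrict K fun a => (mem_pre_iff _).1 a.2.1)
  have hker : f.ker = (RK A y K ⊓ VK A y K).subgroupOf (VK A y K) := by
    ext a
    rw [MonoidHom.mem_ker, mem_subgroupOf]
    refine (QuotientGroup.eq_one_iff _).trans ⟨fun hz => ?_, fun hz => ?_⟩
    · exact h.mem_inf_of_center hy a.2.2 hz rfl
    · exact h.inf_mem_center hy hz.1 hz.2
  have hin : ∀ x : K, (x : CQ y) ∈ img A y → x ∈ (T : Subgroup K) := fun x hx => (hT x).2 (hL.closed.1 hx)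
  have hrange : ∀ x, x ∈ f.range ↔ x ∈ (T : Subgroup K).map q ∧ x * x = 1 := by
    intro x
    constructor
    · rintro ⟨a, rfl⟩
      exact ⟨mem_map_of_mem q (hin _ (h.proj_mem_img hy a.2.2)),
        by rw [← map_mul, show a * a = 1 from Subtype.ext (h.sq _ a.2.2), map_one]⟩
    · rintro ⟨⟨w, hw, rfl⟩, hx⟩
      rw [← map_mul] at hx
      obtain ⟨b, hb, hbz⟩ := hcov w hw ((QuotientGroup.eq_one_iff _).1 hx)
      obtain ⟨a, ha, e⟩ := (h.mem_img_iff hy).1 hb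
      refine ⟨⟨a, (h.mem_VK hy ha).2 (e ▸ b.2)⟩, ?_⟩
      rw [← show q b = q w from QuotientGroup.eq.2 hbz]
      exact congrArg q (Subtype.ext e)
  rw [← f.ker.index_mul_card, index_ker, hker,
    Nat.card_congr (subgroupOfEquivOfLe (inf_le_right : RK A y K ⊓ VK A y K ≤ VK A y K)).toEquiv,
    ← Nat.card_congr (Equiv.subtypeEquivRight hrange)]

theorem VK_four_le (hy : y ∈ A) (ho : orderOf y = 2) {K : Subgroup (CQ y)} (hK : IsMet A y K) :
    4 ≤ Nat.card (VK A y K) := by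
  obtain ⟨P, T, -, -, hM, hc⟩ := h.exists_quot hF hy ho hK
  rw [hc]
  exact le_mul_of_le_of_one_le hM.four Nat.card_pos

omit hF in
theorem card_mul_card {R V : Subgroup G} (hR : R ≤ A) (hV : V ≤ A) (hsup : R ⊔ V = A) (hinf : R ⊓ V = ⊥) :
    Nat.card R * Nat.card V = Nat.card A := by
  rw [← hsup]
  refine (CfsgLib.CFun.ZLen.card_sup_eq (fun v hv => ?_) hinf).symm
  exact centralizer_le_normalizer _ (mem_centralizer_iff.2 fun r hr => h.commute_mem (hR hr) (hV hv))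

/-- The torus of a met component. -/
theorem exists_torus (hy : y ∈ A) (ho : orderOf y = 2) {K : Subgroup (CQ y)} (hK : IsMet A y K) :
    ∃ n ∈ normalizer (A : Set G), n ∈ centralizer ({y} : Set G) ∧ (∀ r ∈ RK A y K, n * r * n⁻¹ = r) ∧
      (∀ v ∈ VK A y K, n * v * n⁻¹ ∈ VK A y K) ∧
      ∀ v ∈ VK A y K, v ∉ RK A y K → ∀ w ∈ VK A y K, w ∉ RK A y K →
        ∃ i : ℕ, n ^ i * v * (n ^ i)⁻¹ * w⁻¹ ∈ RK A y K ⊓ VK A y K := by
  obtain ⟨P, T, hL, hT, hM, -⟩ := h.exists_quot hF hy ho hK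
  set q := QuotientGroup.mk' (center K)
  obtain ⟨τ, hτ, htr⟩ := hM.torus
  obtain ⟨k, rfl⟩ := QuotientGroup.mk'_surjective _ τ
  have hkT : ∀ t ∈ (T : Subgroup K), k * t * k⁻¹ ∈ (T : Subgroup K) := fun t ht => by
    obtain ⟨w, hw, e⟩ := (mem_normalizer_iff.1 hτ (q t)).1 (mem_map_of_mem q ht)
    rw [← map_inv, ← map_mul, ← map_mul] at e
    have h1 : w⁻¹ * (k * t * k⁻¹) ∈ center K := QuotientGroup.eq.1 e
    have h2 := mul_mem hw ((hT _).2 (hL.center_le_sylow hK.1 h1))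
    rwa [mul_inv_cancel_left] at h2
  have hkB : (k : CQ y) ∈ normalizer (img A y : Set (CQ y)) := mem_normalizer_fintype fun b hb => by
    obtain ⟨v, hv, hvc⟩ := hL.split hK.1 hb
    have hvT : (⟨v, hv.2⟩ : K) ∈ (T : Subgroup K) := (hT _).2 (hL.closed.1 hv.1)
    have hc : (k : CQ y) * (b * v⁻¹) * (k : CQ y)⁻¹ = b * v⁻¹ := by
      rw [mem_centralizer_iff.1 hvc k k.2, mul_inv_cancel_right]
    have hkv : (k : CQ y) * v * (k : CQ y)⁻¹ ∈ img A y :=
      hL.conj_mem hv.1 ((hT _).1 (hkT _ hvT))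
    have h1 := mul_mem (mul_mem hb (inv_mem hv.1)) hkv
    rw [← hc] at h1
    rwa [show (k : CQ y) * (b * v⁻¹) * (k : CQ y)⁻¹ * ((k : CQ y) * v * (k : CQ y)⁻¹) =
      (k : CQ y) * b * (k : CQ y)⁻¹ by group] at h1
  obtain ⟨g, hgA, hg⟩ := h.exists_lift hy hkB
  have hconj : ∀ a ∈ A, (g : G) * a * (g : G)⁻¹ ∈ A := fun a ha => (mem_normalizer_iff.1 hgA a).1 ha
  have hproj : ∀ (a : G) (ha : a ∈ A), proj y ⟨_, h.mem_centralizer hy (hconj a ha)⟩ =
      (k : CQ y) * proj y ⟨a, h.mem_centralizer hy ha⟩ * (k : CQ y)⁻¹ := fun a ha => by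
    rw [← hg, ← map_inv, ← map_mul, ← map_mul]
    rfl
  have hV : ∀ v ∈ VK A y K, (g : G) * v * (g : G)⁻¹ ∈ VK A y K := fun v hv =>
    (h.mem_VK hy (hconj v hv.2)).2 (by
      rw [hproj v hv.2]
      exact mul_mem (mul_mem k.2 ((h.mem_VK hy hv.2).1 hv)) (inv_mem k.2))
  refine ⟨g, hgA, g.2, fun r hr => ?_, hV, fun v hv hvR w hw hwR => ?_⟩
  · refine h.proj_inj hy (hconj r hr.2) hr.2 ?_
    rw [hproj r hr.2, mem_centralizer_iff.1 ((h.mem_RK hy hr.2).1 hr) k k.2, mul_inv_cancel_right]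
  set v' : K := ⟨_, (h.mem_VK hy hv.2).1 hv⟩
  set w' : K := ⟨_, (h.mem_VK hy hw.2).1 hw⟩
  have hne : ∀ {a : G} (ha : a ∈ VK A y K), a ∉ RK A y K →
      q ⟨_, (h.mem_VK hy ha.2).1 ha⟩ ≠ 1 := fun ha hn e =>
    hn (h.mem_inf_of_center hy ha.2 ((QuotientGroup.eq_one_iff _).1 e) rfl).1
  have hsq : ∀ {a : G} (ha : a ∈ VK A y K),
      q ⟨_, (h.mem_VK hy ha.2).1 ha⟩ * q ⟨_, (h.mem_VK hy ha.2).1 ha⟩ = 1 := fun {a} ha => by
    have e : (⟨_, (h.mem_VK hy ha.2).1 ha⟩ : K) * ⟨_, (h.mem_VK hy ha.2).1 ha⟩ = 1 :=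
      Subtype.ext (hL.sq _ (h.proj_mem_img hy ha.2))
    rw [← map_mul, e, map_one]
  obtain ⟨i, hi⟩ := htr (q v') (mem_map_of_mem q ((hT _).2 (hL.closed.1 (h.proj_mem_img hy hv.2))))
    (hsq hv) (hne hv hvR) (q w') (mem_map_of_mem q ((hT _).2 (hL.closed.1 (h.proj_mem_img hy hw.2))))
    (hsq hw) (hne hw hwR)
  refine ⟨i, ?_⟩
  have hgi : (g : G) ^ i * v * ((g : G) ^ i)⁻¹ ∈ A :=
    (mem_normalizer_iff.1 (pow_mem hgA i) v).1 hv.2
  refine h.mem_inf_of_center hy (mul_mem hgi (inv_mem hw.2)) (z := k ^ i * v' * (k ^ i)⁻¹ * w'⁻¹) ?_ ?_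
  · rw [← QuotientGroup.eq_one_iff]
    show q _ = 1
    rw [map_mul, map_mul, map_mul, map_inv, map_inv, map_pow, hi, mul_inv_cancel]
  · show proj y _ = _
    push_cast
    rw [← hg, ← map_pow, ← map_inv, ← map_mul, ← map_mul, ← map_inv, ← map_mul]
    rfl

end Setting

end CfsgLib.Gold
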