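import Cfsg.Agent.Lib.Goldschmidt.Comp.Model
import Cfsg.Agent.Lib.Walter.Rank.Factor
import Cfsg.Agent.Lib.Fusion.AbelianSylowAut
import Cfsg.Agent.Lib.Coprime.LBalance.Tools

/-!
# The properties of the groups with abelian Sylow `2`-subgroups in the list
-/

set_option autoImplicit false
set_option linter.style.haveILetI false

namespace CfsgLib.Gold

open Subgroup

universe u

variable {Y : Type u} [Group Y] [Finite Y]

/-- An involutory automorphism fixing an elementary Sylow `2`-subgroup is inner by it. -/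
theorem inner_of_fix_elementary (hs : IsSimpleGroup Y) (hna : ¬ IsMulCommutative Y) (Q : Sylow 2 Y)
    (hsq : ∀ x ∈ (Q : Subgroup Y), x * x = 1) (α : MulAut Y) (hα : ∀ x, α (α x) = x)
    (hfix : ∀ x ∈ (Q : Subgroup Y), α x = x) : ∃ t ∈ (Q : Subgroup Y), ∀ x, α x = t * x * t⁻¹ := by
  haveI := Fact.mk Nat.prime_two
  haveI := hs
  have hcomm : IsMulCommutative (Q : Subgroup Y) := isMulCommutative_iff.2 fun a b => Subtype.ext (by
    show (a : Y) * b = b * a
    have h1 := hsq _ (mul_mem a.2 b.2)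
    rw [mul_eq_one_iff_eq_inv, mul_inv_rev, inv_eq_of_mul_eq_one_right (hsq _ a.2),
      inv_eq_of_mul_eq_one_right (hsq _ b.2)] at h1
    exact h1)
  have hZ : center Y = ⊥ := (inferInstance : (center Y).Normal).eq_bot_or_eq_top.resolve_right
    fun e => hna (isMulCommutative_iff.2 fun a b => (mem_center_iff.1 (e.ge (mem_top a)) b).symm)
  have hcore : Cfsg.pPrimeCore 2 Y = ⊥ := by
    refine (inferInstance : (Cfsg.pPrimeCore 2 Y).Normal).eq_bot_or_eq_top.resolve_right fun e => hna ?_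
    have hodd := CfsgLib.Coprime.pPrimeCore_coprime (G := Y) Nat.prime_two
    rw [e, card_top] at hodd
    haveI := CfsgLib.FT.isSolvable_of_odd Y (Nat.coprime_two_right.1 hodd)
    exact isMulCommutative_iff.2 (IsSimpleGroup.comm_iff_isSolvable.2 this)
  obtain ⟨j, -, hj⟩ := (Nat.dvd_prime_pow Nat.prime_two).1
    (orderOf_dvd_of_pow_eq_one (x := α) (n := 2 ^ 1) (by
      rw [pow_one, pow_two]
      exact MulEquiv.ext hα))
  obtain ⟨g, hg⟩ := CfsgLib.Fusion.isInner_of_fixes_abelian_sylow hZ hcore Q hcomm α hj hfix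
  have hgg : g * g = 1 := by
    refine Subgroup.mem_bot.1 (hZ ▸ mem_center_iff.2 fun x => ?_)
    have h1 := hα x
    rw [hg, hg, show g * (g * x * g⁻¹) * g⁻¹ = g * g * x * (g * g)⁻¹ by group] at h1
    exact (mul_inv_eq_iff_eq_mul.1 h1).symm
  have hgQ : g ∈ (Q : Subgroup Y) := by
    have hc : ∀ r ∈ (Q : Subgroup Y), g * r * g⁻¹ = r := fun r hr => (hg r).symm.trans (hfix r hr)
    have hn : g ∈ normalizer ((Q : Subgroup Y) : Set Y) := mem_normalizer_fintype fun r hr => (hc r hr).symm ▸ hr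
    have hle : (Q : Subgroup Y) ⊔ zpowers g = Q := Q.3
      (Q.2.to_sup_of_normal_left' (CfsgLib.Coprime.isPGroup_zpowers (k := 1) (by rw [pow_one, pow_two, hgg]))
        (zpowers_le.2 hn)) le_sup_left
    exact hle ▸ mem_sup_right (mem_zpowers g)
  exact ⟨g, hgQ, hg⟩

/-- The groups of centralizer form. -/
theorem model_of_centForm (hs : IsSimpleGroup Y) (hna : ¬ IsMulCommutative Y)
    (hc : CfsgLib.Walter.CentForm Y) (Q : Sylow 2 Y) : Model Y (Q : Subgroup Y) := by
  haveI := Fact.mk Nat.prime_two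
  obtain ⟨h4, hsq⟩ := CfsgLib.Walter.Rank.sylow_elementary hs hc Q
  have hcomm : ∀ x ∈ (Q : Subgroup Y), ∀ y ∈ (Q : Subgroup Y), x * y = y * x := fun x hx y hy => by
    have h1 := hsq _ (mul_mem hx hy)
    rw [mul_eq_one_iff_eq_inv, mul_inv_rev, inv_eq_of_mul_eq_one_right (hsq _ hx),
      inv_eq_of_mul_eq_one_right (hsq _ hy)] at h1
    exact h1
  have hab : CfsgLib.Walter.AbTwo Y := fun T a b => by
    let e := Sylow.equiv T Q
    refine e.injective ?_
    rw [map_mul, map_mul]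
    exact Subtype.ext (hcomm _ (e a).2 _ (e b).2)
  refine ⟨fun x hx _ y hy => hcomm x hx y hy, ?_, ?_, fun α hα hfix _ => ?_⟩
  · rwa [Nat.card_congr (Equiv.subtypeEquivRight (q := fun x => x ∈ (Q : Subgroup Y))
      fun x => ⟨fun h => h.1, fun h => ⟨h, hsq x h⟩⟩)]
  · obtain ⟨k, hk, htr⟩ := CfsgLib.Walter.Rank.exists_torus hs hc hab Q
    exact ⟨k, hk, fun x hx _ hx1 y hy _ hy1 => htr x hx hx1 y hy hy1⟩
  · exact inner_of_fix_elementary hs hna Q hsq α hα fun x hx => hfix x hx (hsq x hx)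

end CfsgLib.Gold
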