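import Cfsg.Agent.Lib.Goldschmidt.Comp.Lift
import Cfsg.Agent.Lib.Fusion.Abelian
import Cfsg.Agent.Lib.Invol.CentralNonab.PsuMult
import Cfsg.Agent.Lib.Lie.MultExc.SzEight.Main
import Cfsg.Agent.Lib.Walter.Rank.Factor
import Cfsg.Agent.S2111
import Mathlib.Algebra.Group.Shrink

/-!
# The centre of a component not centralized by the strongly closed subgroup

It is trivial unless the simple quotient is the Suzuki group over eight elements, in which case it has order
at most four.
-/

set_option autoImplicit false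
set_option linter.style.haveILetI false

namespace CfsgLib.Gold

open Subgroup
open scoped commutatorElement

universe u

/-- The data of the Suzuki group over eight elements which are used: a Sylow `2`-subgroup of order `64` with
eight elements of order at most two, and squares of order at most two. -/
structure EightData (Y : Type u) [Group Y] (T : Subgroup Y) : Prop where
  card : Nat.card T = 64
  omega : Nat.card {x : Y // x ∈ T ∧ x * x = 1} = 8
  four : ∀ x ∈ T, x * x * (x * x) = 1

variable {K : Type u} [Group K] [Finite K]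

/-- The order of the centre of a perfect group divides that of the multiplier of its central quotient. -/
theorem card_center_dvd {Y : Type} [Group Y] [Finite Y] {M : Type} [CommGroup M] [Finite M]
    (hM : Cfsg.HasSchurMultiplier Y M) (hK : commutator K = ⊤) (e : K ⧸ center K ≃* Y) :
    Nat.card (center K) ∣ Nat.card M := by
  let ε : Shrink.{0} K ≃* K := Shrink.mulEquiv
  let σ : Shrink.{0} K →* Y := e.toMonoidHom.comp ((QuotientGroup.mk' (center K)).comp ε.toMonoidHom)
  have hker : ∀ x, x ∈ σ.ker ↔ ε x ∈ center K := fun x => by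
    rw [MonoidHom.mem_ker]
    exact e.map_eq_one_iff.trans (QuotientGroup.eq_one_iff (ε x))
  have hσ : Cfsg.IsStemExtension σ := by
    refine ⟨e.surjective.comp ((QuotientGroup.mk'_surjective _).comp ε.surjective), fun x hx =>
      mem_center_iff.2 fun y => ε.injective ?_, fun x _ => ?_⟩
    · rw [map_mul, map_mul]
      exact mem_center_iff.1 ((hker x).1 hx) _
    · have h3 : ε.symm.toMonoidHom (ε x) ∈ (commutator K).map ε.symm.toMonoidHom :=
        mem_map_of_mem _ (hK ▸ mem_top _)
      rw [MulEquiv.coe_toMonoidHom, MulEquiv.symm_apply_apply, _root_.commutator_def, map_commutator] at h3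
      exact commutator_mono le_top le_top h3
  obtain ⟨φ, hφ⟩ := hM.2 (Shrink.{0} K) σ hσ
  have h1 : Nat.card σ.ker = Nat.card (center K) :=
    Nat.card_congr
      { toFun := fun x => ⟨ε x.1, (hker _).1 x.2⟩
        invFun := fun z => ⟨ε.symm z.1, (hker _).2 (by rw [MulEquiv.apply_symm_apply]; exact z.2)⟩
        left_inv := fun x => Subtype.ext (ε.symm_apply_apply _)
        right_inv := fun z => Subtype.ext (ε.apply_symm_apply _) }
  rw [← h1]
  exact Subgroup.card_dvd_of_surjective φ hφ

/-- The Sylow `2`-subgroups of the Suzuki group over eight elements. -/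
theorem eightData {F : Type} [Field F] [Fintype F] (hF : Fintype.card F = 2 ^ (2 * 1 + 1)) {Y : Type u}
    [Group Y] [Finite Y] (e : Y ≃* Cfsg.Sz F 1) (T : Sylow 2 Y) : EightData Y (T : Subgroup Y) := by
  classical
  haveI := Fact.mk Nat.prime_two
  haveI : CharP F 2 := charP_of_card_eq_prime_pow (f := 2 * 1 + 1) hF
  have hm : 1 ≤ 1 := le_rfl
  let U₀ : Sylow 2 (Cfsg.Sz F 1) :=
    (CfsgLib.Lie.Suz.U_isPGroup hF).toSylow (CfsgLib.Lie.Suz.U_index_not_dvd hm hF)
  obtain ⟨g, hg⟩ := MulAction.exists_smul_eq (Cfsg.Sz F 1) (T.mapSurjective (f := e.toMonoidHom) e.surjective) U₀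
  let e' : Y ≃* Cfsg.Sz F 1 := e.trans (MulAut.conj g)
  have hmem : ∀ x, x ∈ (T : Subgroup Y) ↔ e' x ∈ CfsgLib.Lie.Suz.U hF := by
    intro x
    rw [show CfsgLib.Lie.Suz.U hF = (U₀ : Subgroup (Cfsg.Sz F 1)) from rfl, ← hg, Sylow.coe_subgroup_smul,
      show ((T.mapSurjective (f := e.toMonoidHom) e.surjective : Sylow 2 (Cfsg.Sz F 1)) : Subgroup (Cfsg.Sz F 1)) =
        (T : Subgroup Y).map e.toMonoidHom from rfl]
    constructor
    · intro hx
      exact ⟨e x, ⟨x, hx, rfl⟩, rfl⟩
    · rintro ⟨_, ⟨y, hy, rfl⟩, h⟩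
      exact e.injective ((MulAut.conj g).injective h) ▸ hy
  have hS := CfsgLib.Lie.Suz.isSuzField hF
  refine ⟨?_, ?_, fun x hx => ?_⟩
  · have h1 : Nat.card (T : Subgroup Y) = Nat.card (CfsgLib.Lie.Suz.U hF) :=
      Nat.card_congr
        { toFun := fun x => ⟨e' x.1, (hmem _).1 x.2⟩
          invFun := fun z => ⟨e'.symm z.1, (hmem _).2 (by rw [MulEquiv.apply_symm_apply]; exact z.2)⟩
          left_inv := fun x => Subtype.ext (e'.symm_apply_apply _)
          right_inv := fun z => Subtype.ext (e'.apply_symm_apply _) }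
    rw [h1, CfsgLib.Lie.Suz.card_U hF, hF]
    norm_num
  · have hsq : ∀ a b : F, CfsgLib.Lie.Suz.TS hF a b * CfsgLib.Lie.Suz.TS hF a b = 1 ↔ a = 0 := by
      intro a b
      have e1 : CfsgLib.Lie.Suz.TS hF a b * CfsgLib.Lie.Suz.TS hF a b =
          CfsgLib.Lie.Suz.TS hF 0 (CfsgLib.Lie.Suz.th 1 a * a) := Subtype.ext (CfsgLib.Lie.Suz.T_sq hS a b)
      have e2 : CfsgLib.Lie.Suz.TS hF (0 : F) 0 = 1 := Subtype.ext CfsgLib.Lie.Suz.T_zero
      rw [e1, ← e2]
      constructor
      · intro h
        have h2 := CfsgLib.Lie.Suz.TS_injective hF (a₁ := (0, _)) (a₂ := (0, 0)) h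
        rcases mul_eq_zero.1 (congrArg Prod.snd h2) with h3 | h3
        · exact CfsgLib.Lie.Suz.th_eq_zero hS h3
        · exact h3
      · rintro rfl
        rw [mul_zero]
    refine (Nat.card_congr (Equiv.ofBijective
      (fun b : F => (⟨e'.symm (CfsgLib.Lie.Suz.TS hF 0 b), ?_, ?_⟩ : {x : Y // x ∈ (T : Subgroup Y) ∧ x * x = 1}))
      ⟨fun b c h => ?_, ?_⟩)).symm.trans ?_
    · rw [hmem, MulEquiv.apply_symm_apply]
      exact CfsgLib.Lie.Suz.TS_mem_U hF _ _
    · rw [← map_mul, (hsq 0 b).2 rfl, map_one]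
    · exact congrArg Prod.snd
        (CfsgLib.Lie.Suz.TS_injective hF (a₁ := (0, b)) (a₂ := (0, c)) (e'.symm.injective (congrArg Subtype.val h)))
    · rintro ⟨x, hx, hxx⟩
      obtain ⟨a, b, hab⟩ := (hmem x).1 hx
      have hx' : e' x = CfsgLib.Lie.Suz.TS hF a b := Subtype.ext hab
      have ha : a = 0 := (hsq a b).1 (by rw [← hx', ← map_mul, hxx, map_one])
      exact ⟨b, Subtype.ext (by subst ha; show e'.symm _ = x; rw [← hx']; exact e'.symm_apply_apply x)⟩
    · rw [Nat.card_eq_fintype_card, hF]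
      norm_num
  · obtain ⟨a, b, hab⟩ := (hmem x).1 hx
    apply e'.injective
    rw [map_one, map_mul, map_mul]
    refine Subtype.ext ?_
    show (e' x : Matrix.SpecialLinearGroup (Fin 4) F) * e' x * (e' x * e' x) = 1
    rw [hab, CfsgLib.Lie.Suz.T_sq hS, CfsgLib.Lie.Suz.T_sq hS, mul_zero, CfsgLib.Lie.Suz.T_zero]

/-- The centre of a quasisimple group of two-power centre whose simple quotient is in the list. -/
theorem center_cases (hq : Cfsg.IsQuasisimple K) (h2 : IsPGroup 2 (center K)) (hform : Form (K ⧸ center K))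
    (T : Sylow 2 K) :
    (∀ x ∈ (T : Subgroup K), x * x ∈ center K) ∨ center K = ⊥ ∨
      (EightData (K ⧸ center K) ((T : Subgroup K).map (QuotientGroup.mk' (center K))) ∧
        Nat.card (center K) ≤ 4) := by
  haveI := Fact.mk Nat.prime_two
  haveI := hq.2
  have hperf : commutator K = ⊤ := by
    haveI := hq.1
    exact Group.IsPerfect.commutator_eq_top (G := K)
  have hodd : ∀ n : ℕ, Odd n → Nat.card (center K) ∣ n → center K = ⊥ := by
    intro n hn hd
    obtain ⟨k, hk⟩ := IsPGroup.iff_card.1 h2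
    rcases Nat.eq_zero_or_pos k with rfl | hk0
    · exact Subgroup.card_eq_one.1 (by simpa using hk)
    · have : (2 : ℕ) ∣ n := ((dvd_pow_self 2 hk0.ne').trans hk.symm.dvd).trans hd
      exact absurd (even_iff_two_dvd.2 this) (Nat.not_even_iff_odd.2 hn)
  have hab : CfsgLib.Walter.CentForm (K ⧸ center K) → ∀ x ∈ (T : Subgroup K), x * x ∈ center K := by
    intro hc x hx
    have hqs : Function.Surjective (QuotientGroup.mk' (center K)) := QuotientGroup.mk'_surjective _
    have h1 := (CfsgLib.Walter.Rank.sylow_elementary hq.2 hc (T.mapSurjective hqs)).2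
      (QuotientGroup.mk' (center K) x) (by rw [Sylow.coe_mapSurjective]; exact mem_map_of_mem _ hx)
    rw [← map_mul] at h1
    exact (QuotientGroup.eq_one_iff _).1 h1
  rcases hform with hc | ⟨F, i1, i2, hn, he⟩ | hsz | ⟨F, i1, i2, n, hn, hF, ⟨e⟩⟩
  · exact Or.inl (hab hc)
  · exact Or.inl (hab (Or.inl ⟨F, i1, i2, Or.inl hn, he⟩))
  · obtain ⟨F, i1, i2, m, hm, hF, ⟨e⟩⟩ := hsz
    obtain ⟨f⟩ := CfsgLib.Lie.Suz.exists_twEquiv (F := F) (m := m) hm hF
    rcases Nat.lt_or_ge m 2 with hm2 | hm2
    · obtain rfl : m = 1 := by omega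
      refine Or.inr (Or.inr ⟨?_, ?_⟩)
      · have hqs : Function.Surjective (QuotientGroup.mk' (center K)) := QuotientGroup.mk'_surjective _
        have := eightData hF (e.trans f.symm) (T.mapSurjective hqs)
        rwa [Sylow.coe_mapSurjective] at this
      · have h8 : Fintype.card F = 8 := by rw [hF]; norm_num
        haveI : Finite ↥(Cfsg.Lie.Sz F 4) := Finite.of_equiv _ f.toEquiv
        have h := card_center_dvd (CfsgLib.Lie.MultExc.SzEight.multiplier_Sz8 h8) hperf e
        refine (Nat.le_of_dvd Nat.card_pos h).trans (le_of_eq ?_)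
        rw [Nat.card_congr Multiplicative.toAdd, Nat.card_prod, Nat.card_zmod]
    · haveI : Finite ↥(Cfsg.Lie.Sz F (2 ^ (m + 1))) := Finite.of_equiv _ f.toEquiv
      haveI : Finite (Multiplicative (ZMod 1)) := inferInstance
      have h := card_center_dvd (Cfsg.Agent.S2111.result hm2 hF) hperf e
      rw [Nat.card_congr Multiplicative.toAdd, Nat.card_zmod] at h
      exact Or.inr (Or.inl (hodd 1 odd_one h))
  · haveI : NeZero (Nat.gcd 3 (2 ^ n + 1)) := ⟨(Nat.gcd_pos_of_pos_left _ (by norm_num)).ne'⟩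
    haveI : Finite (Cfsg.PSU 3 F (2 ^ n)) := Finite.of_equiv _ e.toEquiv
    have h := card_center_dvd (CfsgLib.CentralNonab.psu_three_multiplier hn hF) hperf e
    rw [Nat.card_congr Multiplicative.toAdd, Nat.card_zmod] at h
    refine Or.inr (Or.inl (hodd _ ?_ h))
    rcases (Nat.dvd_prime Nat.prime_three).1 (Nat.gcd_dvd_left 3 (2 ^ n + 1)) with h3 | h3 <;> rw [h3] <;> decide

namespace Loc

variable {X : Type u} [Group X] [Finite X] {P : Sylow 2 X} {B : Subgroup X}

/-- If the involutions of the quotient are all of its Sylow subgroup, the centre is trivial. -/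
theorem center_eq_bot (h : Loc P B) {K : Subgroup X} (hK : Cfsg.IsComponent K)
    (hm : ¬ B ≤ centralizer (K : Set X)) (hsq : ∀ x : K, (x : X) ∈ (P : Subgroup X) → x * x ∈ center K) :
    center K = ⊥ := by
  haveI := Fact.mk Nat.prime_two
  obtain ⟨T, hT, -, hcov⟩ := h.met_spec hK hm
  haveI : IsMulCommutative (T : Subgroup K) := isMulCommutative_iff.2 fun a b => Subtype.ext (by
    obtain ⟨a', ha', hza⟩ := hcov a a.2 (hsq a ((hT _).1 a.2))
    obtain ⟨b', hb', hzb⟩ := hcov b b.2 (hsq b ((hT _).1 b.2))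
    show (a : K) * b = b * a
    have e1 : Commute a' b' := Subtype.ext (h.comm ha' hb')
    have e2 : ∀ {z : K}, z ∈ center K → ∀ w, Commute z w := fun hz w => (mem_center_iff.1 hz w).symm
    rw [show (a : K) = a' * (a'⁻¹ * a) by group, show (b : K) = b' * (b'⁻¹ * b) by group]
    exact ((e1.mul_left (e2 hza b')).mul_right ((e2 hzb a').symm.mul_left (e2 hza _))).eq)
  refine (Subgroup.eq_bot_iff_forall _).2 fun z hz => ?_
  haveI := hK.2.1
  exact CfsgLib.Fusion.central_inf_commutator_eq_one (T : Subgroup K) T.card_coprime_index hz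
    ((Group.IsPerfect.commutator_eq_top (G := K)).symm ▸ mem_top z) ((hT z).2 (h.center_le_sylow hK hz))

end Loc

end CfsgLib.Gold
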