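import Cfsg.Agent.Lib.Goldschmidt.Comp.Center
import Cfsg.Agent.Lib.Walter.Main

/-!
# The covers of the Suzuki group over eight elements

In a perfect central extension by a nontrivial `2`-group a Sylow `2`-subgroup does not centralize the
preimage of the elements of order at most two of the quotient.
-/

set_option autoImplicit false
set_option linter.style.haveILetI false

namespace CfsgLib.Gold

open Subgroup
open scoped commutatorElement

universe u

/-- A central element of a Sylow subgroup of a perfect group lies in its derived group. -/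
theorem central_mem_commutator {K : Type u} [Group K] [Finite K] (hK : commutator K = ⊤) (T : Sylow 2 K)
    {z : K} (hz : z ∈ center K) (hzT : z ∈ (T : Subgroup K)) :
    z ∈ ⁅(T : Subgroup K), (T : Subgroup K)⁆ := by
  haveI := Fact.mk Nat.prime_two
  have hle : commutator K ≤ (MonoidHom.transfer (Abelianization.of (G := (T : Subgroup K)))).ker :=
    Abelianization.commutator_subset_ker _
  have h1 : MonoidHom.transfer (Abelianization.of (G := (T : Subgroup K))) z = 1 := hle (hK ▸ mem_top z)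
  have key : ∀ (k : ℕ) (g₀ : K), g₀⁻¹ * z ^ k * g₀ ∈ (T : Subgroup K) → g₀⁻¹ * z ^ k * g₀ = z ^ k :=
    fun k g₀ _ => by rw [mul_assoc, ← (mem_center_iff.1 (pow_mem hz k) g₀), inv_mul_cancel_left]
  rw [MonoidHom.transfer_eq_pow _ _ key] at h1
  have h2 : (⟨z ^ (T : Subgroup K).index, pow_mem hzT _⟩ : (T : Subgroup K)) ∈ commutator (T : Subgroup K) :=
    (QuotientGroup.eq_one_iff _).1 h1
  have h3 : z ^ (T : Subgroup K).index ∈ ⁅(T : Subgroup K), (T : Subgroup K)⁆ := by
    have := mem_map_of_mem (T : Subgroup K).subtype h2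
    rwa [map_subtype_commutator] at this
  have hcop : ((T : Subgroup K).index).Coprime (orderOf z) :=
    T.card_coprime_index.symm.coprime_dvd_right (Subgroup.orderOf_dvd_natCard _ hzT)
  obtain ⟨m, hm⟩ := exists_pow_eq_self_of_coprime hcop
  exact hm ▸ pow_mem h3 m

variable {Γ : Type u} [Group Γ] [Finite Γ]

theorem exists_step {H : Subgroup Γ} :
    ∃ a, H ⊔ zpowers a = ⊤ ∨ 2 * Nat.card H ≤ Nat.card ↥(H ⊔ zpowers a) := by
  by_cases hH : H = ⊤
  · exact ⟨1, Or.inl (by simp [hH])⟩
  obtain ⟨a, ha⟩ : ∃ a, a ∉ H := by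
    by_contra hc
    exact hH ((eq_top_iff' H).2 fun x => not_not.1 fun hx => hc ⟨x, hx⟩)
  refine ⟨a, Or.inr ?_⟩
  have hlt : H < H ⊔ zpowers a := lt_of_le_of_ne le_sup_left fun e => ha (e ▸ mem_sup_right (mem_zpowers a))
  obtain ⟨k, hk⟩ := card_dvd_of_le hlt.le
  have hk2 : 2 ≤ k := by
    by_contra hk2
    have hk1 : k = 0 ∨ k = 1 := by omega
    rcases hk1 with rfl | rfl
    · exact Nat.card_pos.ne' (by rw [hk, mul_zero] : Nat.card ↥(H ⊔ zpowers a) = 0)
    · exact hlt.ne (eq_of_le_of_card_ge hlt.le (by rw [hk, mul_one]))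
  rw [hk, mul_comm]
  exact Nat.mul_le_mul_left _ hk2

/-- A group of class two with squares in a central subgroup of index at most eight has derived group of order
at most eight. -/
theorem card_commutator_le {W : Subgroup Γ} (hW : W ≤ center Γ) (hcomm : ∀ a b : Γ, ⁅a, b⁆ ∈ W)
    (hsq : ∀ a : Γ, a * a ∈ W) (hcard : Nat.card Γ ≤ 8 * Nat.card W) : Nat.card (commutator Γ) ≤ 8 := by
  have hmul : ∀ g a b : Γ, ⁅g, a * b⁆ = ⁅g, a⁆ * ⁅g, b⁆ := fun g a b => by
    rw [show ⁅g, a * b⁆ = ⁅g, a⁆ * (a * ⁅g, b⁆ * a⁻¹) by simp only [commutatorElement_def]; group,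
      mem_center_iff.1 (hW (hcomm g b)) a, mul_inv_cancel_right]
  obtain ⟨a, ha⟩ := exists_step (H := W)
  obtain ⟨b, hb⟩ := exists_step (H := W ⊔ zpowers a)
  obtain ⟨c, hc⟩ := exists_step (H := W ⊔ zpowers a ⊔ zpowers b)
  have htop : W ⊔ zpowers a ⊔ zpowers b ⊔ zpowers c = ⊤ := by
    rcases hc with hc | hc
    · exact hc
    rcases hb with hb | hb
    · rw [hb, top_sup_eq]
    rcases ha with ha | ha
    · rw [ha, top_sup_eq, top_sup_eq]
    refine eq_of_le_of_card_ge le_top ?_
    rw [card_top]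
    omega
  set D := zpowers ⁅a, b⁆ ⊔ zpowers ⁅a, c⁆ ⊔ zpowers ⁅b, c⁆ with hD
  have hDn : ∀ x y : Γ, (zpowers ⁅x, y⁆).Normal := fun x y => ⟨fun n hn g => by
    rw [mem_center_iff.1 ((zpowers_le.2 (hW (hcomm x y))) hn) g, mul_inv_cancel_right]
    exact hn⟩
  have hmem : ∀ x y : Γ, ⁅x, y⁆ ∈ D := by
    have hflip : ∀ x y : Γ, ⁅x, y⁆ ∈ D → ⁅y, x⁆ ∈ D := fun x y h => commutatorElement_inv x y ▸ inv_mem h
    let U : Γ → Subgroup Γ := fun g =>
      { carrier := {t | ⁅g, t⁆ ∈ D}
        one_mem' := by simp [one_mem]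
        mul_mem' := fun {s t} hs ht => by
          show ⁅g, s * t⁆ ∈ D
          rw [hmul]
          exact mul_mem hs ht
        inv_mem' := fun {s} hs => by
          show ⁅g, s⁻¹⁆ ∈ D
          have e := hmul g s s⁻¹
          rw [mul_inv_cancel, commutatorElement_one_right] at e
          rw [eq_inv_of_mul_eq_one_right e.symm]
          exact inv_mem hs }
    have hgen : ∀ g, (W ≤ U g) := fun g w hw => by
      show ⁅g, w⁆ ∈ D
      rw [commutatorElement_eq_one_iff_mul_comm.2 (mem_center_iff.1 (hW hw) g)]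
      exact one_mem _
    have hU : ∀ g, a ∈ U g → b ∈ U g → c ∈ U g → ∀ t, t ∈ U g := fun g h1 h2 h3 t =>
      (sup_le (sup_le (sup_le (hgen g) (zpowers_le.2 h1)) (zpowers_le.2 h2)) (zpowers_le.2 h3))
        (htop ▸ mem_top t)
    have hab : ⁅a, b⁆ ∈ D := mem_sup_left (mem_sup_left (mem_zpowers _))
    have hac : ⁅a, c⁆ ∈ D := mem_sup_left (mem_sup_right (mem_zpowers _))
    have hbc : ⁅b, c⁆ ∈ D := mem_sup_right (mem_zpowers _)
    have hself : ∀ x : Γ, ⁅x, x⁆ ∈ D := fun x => by rw [commutatorElement_self]; exact one_mem _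
    exact fun x => hU x (hflip _ _ (hU a (hself a) hab hac x))
      (hflip _ _ (hU b (hflip _ _ hab) (hself b) hbc x))
      (hflip _ _ (hU c (hflip _ _ hac) (hflip _ _ hbc) (hself c) x))
  have h2 : ∀ x y : Γ, Nat.card (zpowers ⁅x, y⁆) ≤ 2 := fun x y => by
    rw [Nat.card_zpowers]
    refine Nat.le_of_dvd (by norm_num) (orderOf_dvd_of_pow_eq_one ?_)
    rw [pow_two, ← hmul, commutatorElement_eq_one_iff_mul_comm]
    exact mem_center_iff.1 (hW (hsq y)) x
  haveI := hDn a b
  haveI := hDn a c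
  haveI := hDn b c
  have h3 : Nat.card D ≤ 8 := by
    have e1 := Nat.le_of_dvd (Nat.mul_pos Nat.card_pos Nat.card_pos)
      (CfsgLib.Coprime.card_sup_dvd_of_normal (zpowers ⁅a, b⁆) (zpowers ⁅a, c⁆))
    have e2 := Nat.le_of_dvd (Nat.mul_pos Nat.card_pos Nat.card_pos)
      (CfsgLib.Coprime.card_sup_dvd_of_normal (zpowers ⁅a, b⁆ ⊔ zpowers ⁅a, c⁆) (zpowers ⁅b, c⁆))
    refine e2.trans ((Nat.mul_le_mul (e1.trans (Nat.mul_le_mul (h2 a b) (h2 a c))) (h2 b c)).trans ?_)
    norm_num
  exact (Nat.le_of_dvd Nat.card_pos (card_dvd_of_le (commutator_le.2 fun x _ y _ => hmem x y))).trans h3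

/-- The Sylow subgroup moves the preimage of the involutions. -/
theorem exists_noncommuting {K : Type u} [Group K] [Finite K] (hq : Cfsg.IsQuasisimple K)
    (hnc : ¬ IsMulCommutative (K ⧸ center K)) (T : Sylow 2 K) (hZT : center K ≤ (T : Subgroup K))
    (hZ : center K ≠ ⊥)
    (hM : Model (K ⧸ center K) ((T : Subgroup K).map (QuotientGroup.mk' (center K))))
    (hE : EightData (K ⧸ center K) ((T : Subgroup K).map (QuotientGroup.mk' (center K)))) :
    ∃ t ∈ (T : Subgroup K), ∃ x ∈ (T : Subgroup K), x * x ∈ center K ∧ t * x ≠ x * t := by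
  haveI := Fact.mk Nat.prime_two
  by_contra hcon
  push Not at hcon
  haveI := hq.1
  haveI := hq.2
  have hperf : commutator K = ⊤ := Group.IsPerfect.commutator_eq_top
  set q := QuotientGroup.mk' (center K)
  have hqs : Function.Surjective q := QuotientGroup.mk'_surjective _
  set Tb := (T : Subgroup K).map q with hTb
  let ψ : (T : Subgroup K) →* Tb := q.subgroupMap (T : Subgroup K)
  have hψ : Function.Surjective ψ := q.subgroupMap_surjective _
  let Ω : Subgroup Tb :=
    { carrier := {x | x * x = 1}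
      one_mem' := one_mul 1
      mul_mem' := fun {a b} ha hb => by
        have e : Commute a b := Subtype.ext (hM.central _ a.2 (congrArg Subtype.val ha) _ b.2)
        show a * b * (a * b) = 1
        rw [e.symm.mul_mul_mul_comm, show a * a = 1 from ha, show b * b = 1 from hb, one_mul]
      inv_mem' := fun {a} ha => by
        show a⁻¹ * a⁻¹ = 1
        rw [← mul_inv_rev, show a * a = 1 from ha, inv_one] }
  have hΩ : Nat.card Ω = 8 := by
    rw [← hE.omega]
    exact Nat.card_congr
      { toFun := fun x => ⟨x.1.1, x.1.2, congrArg Subtype.val x.2⟩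
        invFun := fun x => ⟨⟨x.1, x.2.1⟩, Subtype.ext x.2.2⟩
        left_inv := fun _ => rfl
        right_inv := fun _ => rfl }
  set W := Ω.comap ψ
  have hsqΩ : ∀ x : Tb, x * x ∈ Ω := fun x => Subtype.ext (hE.four _ x.2)
  have hcommΩ : ∀ x y : Tb, ⁅x, y⁆ ∈ Ω := fun x y => by
    rw [show ⁅x, y⁆ = x * x * (x⁻¹ * y * (x⁻¹ * y)) * (y * y)⁻¹ by simp only [commutatorElement_def]; group]
    exact mul_mem (mul_mem (hsqΩ x) (hsqΩ _)) (inv_mem (hsqΩ y))
  have hWc : W ≤ center (T : Subgroup K) := fun w hw => mem_center_iff.2 fun t => Subtype.ext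
    (hcon t t.2 w w.2 ((QuotientGroup.eq_one_iff _).1 (by
      show q ((w : K) * w) = 1
      rw [map_mul]
      exact congrArg Subtype.val (mem_comap.1 hw : ψ w * ψ w = 1))))
  have hidx : W.index = Ω.index := index_comap_of_surjective _ hψ
  have hcard : Nat.card (T : Subgroup K) ≤ 8 * Nat.card W := by
    have h1 := Ω.card_mul_index
    rw [hΩ, show Nat.card Tb = 64 from hE.card] at h1
    rw [← W.card_mul_index, hidx, show Ω.index = 8 by omega, mul_comm]
  have h8 := card_commutator_le hWc (fun a b => mem_comap.2 (map_commutatorElement ψ a b ▸ hcommΩ _ _))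
    (fun a => mem_comap.2 (map_mul ψ a a ▸ hsqΩ _)) hcard
  set C := ⁅(T : Subgroup K), (T : Subgroup K)⁆
  have hC8 : Nat.card C ≤ 8 := by
    rwa [show C = (commutator (T : Subgroup K)).map (T : Subgroup K).subtype from (map_subtype_commutator _).symm,
      card_map_of_injective (T : Subgroup K).subtype_injective]
  -- the derived group covers the involutions of the quotient
  have hCb : C.map q = ⁅Tb, Tb⁆ := map_commutator _ _ _
  obtain ⟨u, hu, hu1⟩ : ∃ u ∈ ⁅Tb, Tb⁆, u ≠ 1 := by
    refine (⁅Tb, Tb⁆).bot_or_exists_ne_one.resolve_left fun e => ?_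
    have hc : IsMulCommutative Tb := isMulCommutative_iff.2 fun a b => Subtype.ext <| by
      have := Subgroup.mem_bot.1 (e ▸ commutator_mem_commutator a.2 b.2)
      exact commutatorElement_eq_one_iff_mul_comm.1 this
    have hab : CfsgLib.Walter.AbTwo (K ⧸ center K) := fun Q a b => by
      let e := Sylow.equiv Q (T.mapSurjective hqs)
      refine e.injective ?_
      rw [map_mul, map_mul]
      exact Subtype.ext (congrArg Subtype.val (isMulCommutative_iff.1 hc ⟨_, (e a).2⟩ ⟨_, (e b).2⟩))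
    have hel := CfsgLib.Walter.Rank.sylow_elementary hq.2
      (CfsgLib.Walter.classified _ hq.2 hnc hab) (T.mapSurjective hqs)
    have hall : Nat.card Ω = Nat.card Tb := by
      refine (congrArg (fun H : Subgroup Tb => Nat.card H) (top_unique fun x _ => ?_ : Ω = ⊤)).trans card_top
      exact Subtype.ext (hel.2 _ x.2)
    rw [hΩ, show Nat.card Tb = 64 from hE.card] at hall
    omega
  have hΩle : ∀ x : K ⧸ center K, x ∈ Tb → x * x = 1 → x ∈ ⁅Tb, Tb⁆ := fun x hx hxx => by
    by_cases hx1 : x = 1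
    · exact hx1 ▸ one_mem _
    obtain ⟨τ, hτ, htr⟩ := hM.torus
    have huT : u ∈ Tb := commutator_le_self Tb hu
    have huΩ : u * u = 1 := by
      have hle : ⁅Tb, Tb⁆ ≤ Ω.map Tb.subtype :=
        commutator_le.2 fun a ha b hb => ⟨⁅(⟨a, ha⟩ : Tb), ⟨b, hb⟩⁆, hcommΩ _ _, rfl⟩
      obtain ⟨w, hw, rfl⟩ := hle hu
      exact congrArg Subtype.val (hw : w * w = 1)
    obtain ⟨i, hi⟩ := htr u huT huΩ hu1 x hx hxx hx1
    have hn : τ ^ i ∈ normalizer ((⁅Tb, Tb⁆ : Subgroup (K ⧸ center K)) : Set (K ⧸ center K)) := by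
      refine mem_normalizer_fintype fun w hw => ?_
      have h1 := mem_map_of_mem (MulAut.conj (τ ^ i)).toMonoidHom hw
      rwa [map_commutator, show Tb.map (MulAut.conj (τ ^ i)).toMonoidHom = Tb from
        CfsgLib.Coprime.conjBy_eq_self_iff.2 (pow_mem hτ i)] at h1
    exact hi ▸ (mem_normalizer_iff.1 hn u).1 hu
  have hge : 8 ≤ Nat.card (C.map q) := by
    rw [hCb, ← hΩ, ← card_map_of_injective Tb.subtype_injective]
    refine Nat.le_of_dvd Nat.card_pos (card_dvd_of_le ?_)
    rintro _ ⟨x, hx, rfl⟩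
    exact hΩle _ x.2 (congrArg Subtype.val (hx : x * x = 1))
  -- hence it avoids the centre, which it contains
  let f : C →* C.map q := q.subgroupMap C
  have hfi : Function.Injective f := by
    rw [← MonoidHom.ker_eq_bot_iff, ← Subgroup.card_eq_one]
    have h1 := f.ker.card_mul_index
    rw [index_ker, MonoidHom.range_eq_top.2 (q.subgroupMap_surjective C), card_top] at h1
    have h0 : 0 < Nat.card f.ker := Nat.card_pos
    nlinarith
  refine hZ ((Subgroup.eq_bot_iff_forall _).2 fun z hz => ?_)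
  have hzC : z ∈ C := central_mem_commutator hperf T hz (hZT hz)
  exact congrArg Subtype.val (hfi (a₁ := ⟨z, hzC⟩) (a₂ := 1) (Subtype.ext ((QuotientGroup.eq_one_iff z).2 hz)))

end CfsgLib.Gold
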