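import Mathlib.GroupTheory.GroupAction.Basic
import Mathlib.GroupTheory.OrderOfElement
import Mathlib.GroupTheory.Index
import Mathlib.Tactic.Linarith
import Mathlib.Tactic.IntervalCases
import Mathlib.Tactic.Ring
import Mathlib.Tactic.Group
import Mathlib.Algebra.Group.End

/-!
# An involutory automorphism normalizing a transitive odd group on a group of order eight
-/

set_option autoImplicit false

namespace CfsgLib.Gold

universe u

variable {Q : Type u} [Group Q] [Finite Q]

/-- An automorphism of order at most two of an elementary group of order eight which normalizes a group of odd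
order transitive on the nontrivial elements is trivial. -/
theorem fixes_all_of_odd (hcard : Nat.card Q = 8) (hsq : ∀ q : Q, q * q = 1) (β : MulAut Q)
    (hβ : ∀ q, β (β q) = q) (M : Subgroup (MulAut Q)) (hM : Odd (Nat.card M))
    (hn : ∀ m ∈ M, β * m * β⁻¹ ∈ M) (htr : ∀ q : Q, q ≠ 1 → ∀ r : Q, r ≠ 1 → ∃ m ∈ M, m q = r) :
    ∀ q, β q = q := by
  have hinv : ∀ q : Q, q⁻¹ = q := fun q => inv_eq_of_mul_eq_one_right (hsq q)
  have hc : ∀ a b : Q, a * b = b * a := fun a b => by
    rw [← hinv (a * b), mul_inv_rev, hinv, hinv]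
  let c : Q →* Q :=
    { toFun := fun q => q * β q
      map_one' := by simp
      map_mul' := fun a b => by
        rw [map_mul, mul_assoc a b, ← mul_assoc b (β a), hc b (β a)]
        simp only [mul_assoc] }
  have hcq : ∀ q, c q = q * β q := fun q => rfl
  have hker : ∀ q, q ∈ c.ker ↔ β q = q := fun q => by
    rw [MonoidHom.mem_ker, hcq, mul_eq_one_iff_eq_inv, hinv]
    exact ⟨fun h => h.symm, fun h => h.symm⟩
  intro q₀
  by_contra h0
  have hle : c.range ≤ c.ker := by
    rintro _ ⟨q, rfl⟩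
    rw [hker, hcq, map_mul, hβ, hc]
  have h8 : Nat.card c.ker * Nat.card c.range = 8 := by
    rw [← Subgroup.index_ker, Subgroup.card_mul_index, hcard]
  have hu : c q₀ ≠ 1 := fun e => h0 ((hker q₀).1 (MonoidHom.mem_ker.2 e))
  have hlt : Nat.card c.range < Nat.card c.ker := by
    refine lt_of_le_of_ne (Nat.le_of_dvd Nat.card_pos (Subgroup.card_dvd_of_le hle)) fun e => ?_
    rw [← e] at h8
    have h1 : Nat.card c.range ≤ 8 := by nlinarith [Nat.card_pos (α := c.range)]
    interval_cases hh : Nat.card c.range <;> omega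
  obtain ⟨w, hw, hwR⟩ : ∃ w ∈ c.ker, w ∉ c.range := by
    by_contra hh
    push Not at hh
    exact hlt.not_ge (Nat.le_of_dvd Nat.card_pos (Subgroup.card_dvd_of_le hh))
  set u := c q₀ with hu'
  have hβu : β u = u := (hker u).1 (hle ⟨q₀, rfl⟩)
  have hβw : β w = w := (hker w).1 hw
  obtain ⟨m, hm, hmu⟩ := htr u hu w fun e => hwR (e ▸ one_mem _)
  set n := m⁻¹ * (β * m * β⁻¹) with hn'
  have hnM : n ∈ M := M.mul_mem (M.inv_mem hm) (hn m hm)
  have hβi : β⁻¹ = β := inv_eq_of_mul_eq_one_right (MulEquiv.ext hβ)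
  have hnu : n u = u := by
    rw [hn', hβi, MulAut.mul_apply, MulAut.mul_apply, MulAut.mul_apply, hβu, hmu, hβw]
    exact m.symm_apply_eq.2 hmu.symm
  have hβn : β * n * β⁻¹ = n⁻¹ := by
    have hbb : β * β = 1 := MulEquiv.ext hβ
    rw [hn', hβi, mul_inv_rev, mul_inv_rev, mul_inv_rev, inv_inv, hβi]
    calc β * (m⁻¹ * (β * m * β)) * β = β * m⁻¹ * β * m * (β * β) := by group
      _ = β * m⁻¹ * β * m := by rw [hbb, mul_one]
      _ = β * (m⁻¹ * β) * m := by group
  obtain ⟨k, hk⟩ : Odd (orderOf n) := hM.of_dvd_nat (Subgroup.orderOf_dvd_natCard _ hnM)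
  set r := n ^ (k + 1) with hr
  have hrr : r * r = n := by
    rw [hr, ← pow_add, show k + 1 + (k + 1) = orderOf n + 1 by omega, pow_succ, pow_orderOf_eq_one, one_mul]
  have hru : r u = u := by
    have : ∀ i : ℕ, (n ^ i) u = u := fun i => by
      induction i with
      | zero => simp
      | succ i ih => rw [pow_succ, MulAut.mul_apply, hnu, ih]
    exact this _
  have hβr : β * r * β⁻¹ = r⁻¹ := by rw [hr, ← conj_pow, hβn, inv_pow]
  have hβm : β * m * β⁻¹ = m * n := by rw [hn', mul_inv_cancel_left]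
  set m' := m * r
  have hfix : β * m' * β⁻¹ = m' := by
    calc β * m' * β⁻¹ = β * m * β⁻¹ * (β * r * β⁻¹) := by simp only [m']; group
      _ = m * (r * r) * r⁻¹ := by rw [hβm, hβr, hrr]
      _ = m' := by simp only [m']; group
  refine hwR ⟨m' q₀, ?_⟩
  have hcomm : β (m' q₀) = m' (β q₀) := by
    have := congrArg (fun f : MulAut Q => f (β q₀)) hfix
    simp only [MulAut.mul_apply] at this
    rwa [show β⁻¹ (β q₀) = q₀ from β.symm_apply_apply q₀] at this
  rw [hcq, hcomm, ← map_mul, ← hcq, ← hu', MulAut.mul_apply, hru, hmu]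

end CfsgLib.Gold
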