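import Cfsg.Agent.Lib.Goldschmidt.Comp.Pairs
import Cfsg.Agent.Lib.Goldschmidt.Comp.Covered
import Cfsg.Agent.Lib.Goldschmidt.Comp.OddAct

/-!
# The traces of a met component meet trivially

Otherwise the component is a cover of the Suzuki group over eight elements; a largest such pair is moved by
`N(A)` to a disjoint one, and an element of the first component which fixes an involution of the second
contradicts the structure of the second.
-/

set_option autoImplicit false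
set_option linter.style.haveILetI false

namespace CfsgLib.Gold

open Subgroup
open CfsgLib.Walter.Rank (CQ proj pre mem_pre mem_pre_iff pre_le)

universe u

variable {G : Type u} [Group G] [Finite G] {S : Sylow 2 G} {A : Subgroup G}

namespace Setting

/-- The data of a met component with nontrivial `R ⊓ V`. -/
theorem covered_data (h : Setting S A) (hF : FormModelStmt.{u}) {y : G} (hy : y ∈ A) (ho : orderOf y = 2)
    {K : Subgroup (CQ y)} (hK : IsMet A y K) (hcov : RK A y K ⊓ VK A y K ≠ ⊥) :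
    ∃ (P : Sylow 2 (CQ y)) (T : Sylow 2 K), Loc P (img A y) ∧
      (∀ x : K, x ∈ (T : Subgroup K) ↔ (x : CQ y) ∈ (P : Subgroup (CQ y))) ∧
      Model (K ⧸ center K) ((T : Subgroup K).map (QuotientGroup.mk' (center K))) ∧
      EightData (K ⧸ center K) ((T : Subgroup K).map (QuotientGroup.mk' (center K))) ∧
      center K ≤ (T : Subgroup K) ∧ center K ≠ ⊥ ∧
      (∀ x ∈ (T : Subgroup K), x * x ∈ center K → ∃ b : K, (b : CQ y) ∈ img A y ∧ b⁻¹ * x ∈ center K) ∧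
      Nat.card (VK A y K) = 8 * Nat.card ↥(RK A y K ⊓ VK A y K) ∧ Nat.card ↥(RK A y K ⊓ VK A y K) ≤ 4 := by
  haveI := Fact.mk Nat.prime_two
  obtain ⟨P, T, hL, hT, hM, hc⟩ := h.exists_quot hF hy ho hK
  obtain ⟨T', hT', -, hcv⟩ := hL.met_spec hK.1 hK.2
  obtain rfl : T' = T := Sylow.ext (SetLike.ext fun x => (hT' x).trans (hT x).symm)
  have hZT : center K ≤ (T' : Subgroup K) := fun z hz => (hT z).2 (hL.center_le_sylow hK.1 hz)
  have hZ : center K ≠ ⊥ := fun e => hcov (h.inf_eq_bot_of_center hy e)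
  rcases center_cases hK.1.2 (T'.2.to_le hZT) (h.met_form hF hy ho hK) T' with h1 | h1 | ⟨hE, h4⟩
  · exact absurd (hL.center_eq_bot hK.1 hK.2 fun x hx => h1 x ((hT x).2 hx)) hZ
  · exact absurd h1 hZ
  refine ⟨P, T', hL, hT, hM, hE, hZT, hZ, hcv, by rw [hc, hE.omega], le_trans ?_ h4⟩
  refine Nat.card_le_card_of_injective (fun a => (⟨_, h.inf_mem_center hy a.2.1 a.2.2⟩ : center K))
    fun a b e => Subtype.ext ?_
  exact h.proj_inj hy a.2.1.2 b.2.1.2 (congrArg (fun x : center K => ((x : K) : CQ y)) e)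

/-- An element of a covered component which fixes a given element outside `R` and moves `A`. -/
theorem exists_mover (h : Setting S A) (hF : FormModelStmt.{u}) {y : G} (hy : y ∈ A) (ho : orderOf y = 2)
    {K : Subgroup (CQ y)} (hK : IsMet A y K) (hcov : RK A y K ⊓ VK A y K ≠ ⊥) {r' : G} (hr' : r' ∈ A)
    (hr'R : r' ∉ RK A y K) :
    ∃ e ∈ normalizer (A : Set G), (∀ a ∈ A, e * a * e⁻¹ * a⁻¹ ∈ RK A y K ⊓ VK A y K) ∧
      (∀ r ∈ RK A y K, e * r * e⁻¹ = r) ∧ e * r' * e⁻¹ = r' ∧ ∃ a ∈ A, e * a * e⁻¹ ≠ a := by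
  haveI := Fact.mk Nat.prime_two
  obtain ⟨P, T, hL, hT, hM, hE, hZT, hZ, hcv, hc8, hc4⟩ := h.covered_data hF hy ho hK hcov
  set q := QuotientGroup.mk' (center K)
  obtain ⟨t, ht, x, hx, hxx, htx⟩ :=
    exists_noncommuting hK.1.2 (Loc.quotient_noncomm hK.1) T hZT hZ hM hE
  have htB : (t : CQ y) ∈ normalizer (img A y : Set (CQ y)) := hL.le_normalizer_sylow ((hT t).1 ht)
  obtain ⟨g, hgA, hg⟩ := h.exists_lift hy htB
  have hconj : ∀ a ∈ A, (g : G) * a * (g : G)⁻¹ ∈ A := fun a ha => (mem_normalizer_iff.1 hgA a).1 ha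
  have hproj : ∀ (a : G) (ha : a ∈ A), proj y ⟨_, h.mem_centralizer hy (hconj a ha)⟩ =
      (t : CQ y) * proj y ⟨a, h.mem_centralizer hy ha⟩ * (t : CQ y)⁻¹ := fun a ha => by
    rw [← hg, ← map_inv, ← map_mul, ← map_mul]
    rfl
  have hR : ∀ r ∈ RK A y K, (g : G) * r * (g : G)⁻¹ = r := fun r hr => by
    refine h.proj_inj hy (hconj r hr.2) hr.2 ?_
    rw [hproj r hr.2, mem_centralizer_iff.1 ((h.mem_RK hy hr.2).1 hr) t t.2, mul_inv_cancel_right]
  set Z := RK A y K ⊓ VK A y K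
  have hδV : ∀ v ∈ VK A y K, (g : G) * v * (g : G)⁻¹ * v⁻¹ ∈ Z := fun v hv => by
    set v' : K := ⟨_, (h.mem_VK hy hv.2).1 hv⟩
    refine h.mem_inf_of_center hy (mul_mem (hconj v hv.2) (inv_mem hv.2)) (z := t * v' * t⁻¹ * v'⁻¹) ?_ ?_
    · rw [← QuotientGroup.eq_one_iff]
      show q (t * v' * t⁻¹ * v'⁻¹) = 1
      have hsq : q v' * q v' = 1 := by
        rw [← map_mul, show v' * v' = 1 from Subtype.ext (hL.sq _ (h.proj_mem_img hy hv.2)), map_one]
      have hcm := hM.central (q v') (mem_map_of_mem q ((hT _).2 (hL.closed.1 (h.proj_mem_img hy hv.2)))) hsq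
        (q t) (mem_map_of_mem q ht)
      rw [map_mul, map_mul, map_mul, map_inv, map_inv, ← hcm, mul_inv_cancel_right, mul_inv_cancel]
    · show proj y _ = _
      push_cast
      rw [← hproj v hv.2, ← map_inv, ← map_mul]
      rfl
  -- a moved element of `V`
  obtain ⟨v₁, hv₁, hv₁g⟩ : ∃ v ∈ VK A y K, (g : G) * v * (g : G)⁻¹ ≠ v := by
    obtain ⟨b, hb, hbz⟩ := hcv x hx hxx
    obtain ⟨a, ha, e⟩ := (h.mem_img_iff hy).1 hb
    refine ⟨a, (h.mem_VK hy ha).2 (e ▸ b.2), fun heq => htx ?_⟩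
    have h1 : (t : CQ y) * b * (t : CQ y)⁻¹ = b := by
      rw [← e, ← hproj a ha]
      exact congrArg (proj y) (Subtype.ext heq)
    have h2 : t * b = b * t := Subtype.ext (mul_inv_eq_iff_eq_mul.1 h1)
    rw [show x = b * (b⁻¹ * x) by rw [mul_inv_cancel_left], ← mul_assoc, h2, mul_assoc, mul_assoc,
      mem_center_iff.1 hbz t]
  -- the commutator with `g`
  let δ : VK A y K →* Z :=
    { toFun := fun v => ⟨(g : G) * v * (g : G)⁻¹ * (v : G)⁻¹, hδV v v.2⟩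
      map_one' := Subtype.ext (by simp)
      map_mul' := fun v w => Subtype.ext <| by
        have h1 : (g : G) * w * (g : G)⁻¹ * (w : G)⁻¹ * (v : G)⁻¹ = (v : G)⁻¹ * ((g : G) * w * (g : G)⁻¹ * (w : G)⁻¹) :=
          h.commute_mem (mul_mem (hconj _ w.2.2) (inv_mem w.2.2)) (inv_mem v.2.2)
        show (g : G) * (v * w : G) * (g : G)⁻¹ * (v * w : G)⁻¹ =
          (g : G) * v * (g : G)⁻¹ * (v : G)⁻¹ * ((g : G) * w * (g : G)⁻¹ * (w : G)⁻¹)
        rw [mul_assoc ((g : G) * v * (g : G)⁻¹), ← h1]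
        group }
  obtain ⟨v₀, hv₀, hv₀R⟩ : ∃ v : VK A y K, v ∈ δ.ker ∧ (v : G) ∉ RK A y K := by
    by_contra hc
    push Not at hc
    have hk : Nat.card δ.ker ≤ Nat.card Z :=
      Nat.card_le_card_of_injective (fun v => ⟨(v : VK A y K), hc v.1 v.2, v.1.2⟩) fun a b e =>
        Subtype.ext (Subtype.ext (congrArg Subtype.val e :))
    have hr : Nat.card δ.range ≤ Nat.card Z := Nat.le_of_dvd Nat.card_pos (card_subgroup_dvd_card _)
    have h1 := δ.ker.card_mul_index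
    rw [index_ker, hc8] at h1
    have h2 : Nat.card δ.ker * Nat.card δ.range ≤ Nat.card Z * Nat.card Z := Nat.mul_le_mul hk hr
    have h3 : 0 < Nat.card Z := Nat.card_pos
    nlinarith
  -- rotate it to the given element
  obtain ⟨n, hnA, -, hnR, hnV, htr⟩ := h.exists_torus hF hy ho hK
  obtain ⟨ρ, hρ, v, hv, rfl⟩ := h.exists_mul hF hy ho hK.1 hr'
  have hvR : v ∉ RK A y K := fun hh => hr'R (mul_mem hρ hh)
  obtain ⟨i, hi⟩ := htr v₀ v₀.2 hv₀R v hv hvR
  set m := n ^ i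
  have hmA : m ∈ normalizer (A : Set G) := pow_mem hnA i
  have hmR : ∀ r ∈ RK A y K, m * r * m⁻¹ = r := fun r hr => by
    have : ∀ j : ℕ, n ^ j * r * (n ^ j)⁻¹ = r := fun j => by
      induction j with
      | zero => simp
      | succ j ih =>
        calc n ^ (j + 1) * r * (n ^ (j + 1))⁻¹ = n ^ j * (n * r * n⁻¹) * (n ^ j)⁻¹ := by rw [pow_succ]; group
          _ = r := by rw [hnR r hr, ih]
    exact this i
  set e := m * (g : G) * m⁻¹ with he
  have heA : e ∈ normalizer (A : Set G) := mul_mem (mul_mem hmA hgA) (inv_mem hmA)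
  have hδA : ∀ a ∈ A, (g : G) * a * (g : G)⁻¹ * a⁻¹ ∈ Z := fun a ha => by
    obtain ⟨r, hr, w, hw, rfl⟩ := h.exists_mul hF hy ho hK.1 ha
    have h1 : (g : G) * (r * w) * (g : G)⁻¹ * (r * w)⁻¹ = r * ((g : G) * w * (g : G)⁻¹ * w⁻¹) * r⁻¹ := by
      rw [show (g : G) * (r * w) * (g : G)⁻¹ = (g : G) * r * (g : G)⁻¹ * ((g : G) * w * (g : G)⁻¹) by group,
        hR r hr]
      group
    rw [h1, h.commute_mem hr.2 (mul_mem (hconj _ hw.2) (inv_mem hw.2)), mul_inv_cancel_right]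
    exact hδV w hw
  have hm' : ∀ a ∈ A, m⁻¹ * a * m ∈ A := fun a ha => by
    have := (mem_normalizer_iff.1 (inv_mem hmA) a).1 ha
    rwa [inv_inv] at this
  refine ⟨e, heA, fun a ha => ?_, fun r hr => ?_, ?_, ?_⟩
  · have h1 := hδA _ (hm' a ha)
    have h2 : e * a * e⁻¹ * a⁻¹ = m * ((g : G) * (m⁻¹ * a * m) * (g : G)⁻¹ * (m⁻¹ * a * m)⁻¹) * m⁻¹ := by
      rw [he]; group
    rw [h2, hmR _ h1.1]
    exact h1
  · have h1 : m⁻¹ * r * m = r := by
      calc m⁻¹ * r * m = m⁻¹ * (m * r * m⁻¹) * m := by rw [hmR r hr]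
        _ = r := by group
    calc e * r * e⁻¹ = m * ((g : G) * (m⁻¹ * r * m) * (g : G)⁻¹) * m⁻¹ := by rw [he]; group
      _ = r := by rw [h1, hR r hr, hmR r hr]
  · have hfix0 : (g : G) * v₀ * (g : G)⁻¹ = v₀ := mul_inv_eq_one.1 (congrArg Subtype.val (MonoidHom.mem_ker.1 hv₀))
    set z := m * (v₀ : G) * m⁻¹ * v⁻¹
    have hzR : z ∈ RK A y K := hi.1
    have hvz : ρ * v = (ρ * z⁻¹) * (m * v₀ * m⁻¹) := by simp only [z]; group
    have h1 : e * (ρ * z⁻¹) * e⁻¹ = ρ * z⁻¹ := by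
      have hr : ρ * z⁻¹ ∈ RK A y K := mul_mem hρ (inv_mem hzR)
      have h1 : m⁻¹ * (ρ * z⁻¹) * m = ρ * z⁻¹ := by
        calc m⁻¹ * (ρ * z⁻¹) * m = m⁻¹ * (m * (ρ * z⁻¹) * m⁻¹) * m := by rw [hmR _ hr]
          _ = ρ * z⁻¹ := by group
      calc e * (ρ * z⁻¹) * e⁻¹ = m * ((g : G) * (m⁻¹ * (ρ * z⁻¹) * m) * (g : G)⁻¹) * m⁻¹ := by rw [he]; group
        _ = ρ * z⁻¹ := by rw [h1, hR _ hr, hmR _ hr]
    calc e * (ρ * v) * e⁻¹ = (e * (ρ * z⁻¹) * e⁻¹) * (e * (m * v₀ * m⁻¹) * e⁻¹) := by rw [hvz]; group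
      _ = (ρ * z⁻¹) * (m * ((g : G) * v₀ * (g : G)⁻¹) * m⁻¹) := by rw [h1, he]; group
      _ = ρ * v := by rw [hfix0, ← hvz]
  · refine ⟨m * v₁ * m⁻¹, (mem_normalizer_iff.1 hmA v₁).1 hv₁.2, fun hh => hv₁g ?_⟩
    calc (g : G) * v₁ * (g : G)⁻¹ = m⁻¹ * (e * (m * v₁ * m⁻¹) * e⁻¹) * m := by rw [he]; group
      _ = v₁ := by rw [hh]; group

/-- An element centralizing `z'` which moves `A` into a subgroup meeting the trace of `C(L)` trivially fixes
`A`. -/
theorem mover_fixes (h : Setting S A) (hF : FormModelStmt.{u}) {z' : G} (hz' : z' ∈ A) (ho : orderOf z' = 2)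
    {L : Subgroup (CQ z')} (hL : IsMet A z' L) (hcov : RK A z' L ⊓ VK A z' L ≠ ⊥) {e : G}
    (heA : e ∈ normalizer (A : Set G)) (hez : e * z' * e⁻¹ = z') {Z : Subgroup G}
    (hfixZ : ∀ z ∈ Z, e * z * e⁻¹ = z) (hδ : ∀ a ∈ A, e * a * e⁻¹ * a⁻¹ ∈ Z)
    (hdis : RK A z' L ⊓ Z = ⊥) (hbig : ¬ A ≤ RK A z' L ⊔ Z) : ∀ a ∈ A, e * a * e⁻¹ = a := by
  haveI := Fact.mk Nat.prime_two
  obtain ⟨P, T, hLoc, hT, hM, hE, -, -, hcv, -, -⟩ := h.covered_data hF hz' ho hL hcov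
  have hec : e ∈ centralizer ({z'} : Set G) :=
    mem_centralizer_singleton_iff.2 (mul_inv_eq_iff_eq_mul.1 hez)
  set ē := proj z' ⟨e, hec⟩ with hē
  have hconj : ∀ a ∈ A, e * a * e⁻¹ ∈ A := fun a ha => (mem_normalizer_iff.1 heA a).1 ha
  have hproj : ∀ (a : G) (ha : a ∈ A), proj z' ⟨_, h.mem_centralizer hz' (hconj a ha)⟩ =
      ē * proj z' ⟨a, h.mem_centralizer hz' ha⟩ * ē⁻¹ := fun a ha => by
    rw [hē, ← map_inv, ← map_mul, ← map_mul]
    rfl
  have hee : ∀ a ∈ A, e * (e * a * e⁻¹) * e⁻¹ = a := fun a ha => by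
    have hd : e * a * e⁻¹ * a⁻¹ ∈ A := mul_mem (hconj a ha) (inv_mem ha)
    calc e * (e * a * e⁻¹) * e⁻¹ = (e * (e * a * e⁻¹ * a⁻¹) * e⁻¹) * (e * a * e⁻¹) := by group
      _ = (e * a * e⁻¹ * a⁻¹) * (e * a * e⁻¹ * a⁻¹) * a := by rw [hfixZ _ (hδ a ha)]; group
      _ = a := by rw [h.sq _ hd, one_mul]
  -- `ē` normalizes `L`
  have hLn : ē ∈ normalizer (L : Set (CQ z')) := by
    rw [← CfsgLib.Coprime.conjBy_eq_self_iff]
    by_contra hne
    refine hbig ((h.RK_sup_VK hF hz' ho hL.1).ge.trans (sup_le le_sup_left fun v hv => ?_))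
    have hK' : Cfsg.IsComponent (CfsgLib.Coprime.conjBy ē L) :=
      CfsgLib.Coprime.isComponent_map_equiv (MulAut.conj ē) hL.1
    have hmem : proj z' ⟨_, h.mem_centralizer hz' (hconj v hv.2)⟩ ∈ CfsgLib.Coprime.conjBy ē L := by
      rw [hproj v hv.2]
      exact ⟨_, (h.mem_VK hz' hv.2).1 hv, rfl⟩
    have h1 : e * v * e⁻¹ ∈ RK A z' L := h.VK_le_RK hF hz' hL.1 hK' hne
      ((h.mem_VK hz' (hconj v hv.2)).2 hmem)
    rw [show v = e * v * e⁻¹ * (v⁻¹ * (e * v * e⁻¹))⁻¹ by group]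
    refine mul_mem_sup h1 (inv_mem ?_)
    rw [h.commute_mem (inv_mem hv.2) (hconj v hv.2)]
    exact hδ v hv.2
  set q := QuotientGroup.mk' (center L)
  have hqs : Function.Surjective q := QuotientGroup.mk'_surjective _
  set Tb := (T : Subgroup L).map q with hTb
  set W := ((img A z').subgroupOf L).map q with hWdef
  have hW : ∀ w, w ∈ W ↔ w ∈ Tb ∧ w * w = 1 := by
    intro w
    constructor
    · rintro ⟨b, hb, rfl⟩
      exact ⟨mem_map_of_mem q ((hT b).2 (hLoc.closed.1 hb)), by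
        rw [← map_mul, show b * b = 1 from Subtype.ext (hLoc.sq _ hb), map_one]⟩
    · rintro ⟨⟨x, hx, rfl⟩, hxx⟩
      rw [← map_mul] at hxx
      obtain ⟨b, hb, hbz⟩ := hcv x hx ((QuotientGroup.eq_one_iff _).1 hxx)
      exact ⟨b, hb, QuotientGroup.eq.2 hbz⟩
  have hW8 : Nat.card W = 8 := by
    rw [← hE.omega]
    exact Nat.card_congr (Equiv.subtypeEquivRight hW)
  set α₀ : MulAut L := normalizerMonoidHom L ⟨ē, hLn⟩
  have hα₀ : ∀ x : L, (α₀ x : CQ z') = ē * x * ē⁻¹ := fun x => rfl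
  set α : MulAut (L ⧸ center L) :=
    QuotientGroup.congr _ _ α₀ (CfsgLib.Coprime.map_center_equiv α₀)
  have hα : ∀ x : L, α (q x) = q (α₀ x) := fun x => rfl
  have hWA : ∀ w ∈ W, ∃ a, ∃ ha : a ∈ A, ∃ hl : proj z' ⟨a, h.mem_centralizer hz' ha⟩ ∈ L,
      q ⟨_, hl⟩ = w := by
    rintro _ ⟨b, hb, rfl⟩
    obtain ⟨a, ha, e'⟩ := (h.mem_img_iff hz').1 hb
    exact ⟨a, ha, e' ▸ b.2, congrArg q (Subtype.ext e')⟩
  have hαa : ∀ (a : G) (ha : a ∈ A) (hl : proj z' ⟨a, h.mem_centralizer hz' ha⟩ ∈ L),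
      ∃ hl' : proj z' ⟨_, h.mem_centralizer hz' (hconj a ha)⟩ ∈ L, α (q ⟨_, hl⟩) = q ⟨_, hl'⟩ :=
    fun a ha hl => ⟨by rw [hproj a ha]; exact (mem_normalizer_iff.1 hLn _).1 hl,
      (hα _).trans (congrArg q (Subtype.ext (hproj a ha).symm))⟩
  have hαW : ∀ w ∈ W, α w ∈ W := fun w hw => by
    obtain ⟨a, ha, hl, rfl⟩ := hWA w hw
    obtain ⟨hl', he⟩ := hαa a ha hl
    rw [he]
    exact mem_map_of_mem q (h.proj_mem_img hz' (hconj a ha))
  have hαα : ∀ w ∈ W, α (α w) = w := fun w hw => by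
    obtain ⟨a, ha, hl, rfl⟩ := hWA w hw
    obtain ⟨hl', he⟩ := hαa a ha hl
    obtain ⟨hl'', he'⟩ := hαa _ (hconj a ha) hl'
    rw [he, he']
    exact congrArg q (Subtype.ext (congrArg (proj z') (Subtype.ext (hee a ha))))
  let β : MulAut W :=
    { toFun := fun w => ⟨α w, hαW _ w.2⟩
      invFun := fun w => ⟨α w, hαW _ w.2⟩
      left_inv := fun w => Subtype.ext (hαα _ w.2)
      right_inv := fun w => Subtype.ext (hαα _ w.2)
      map_mul' := fun a b => Subtype.ext (map_mul α a.1 b.1) }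
  have hTN : Tb ≤ normalizer (W : Set (L ⧸ center L)) := fun t ht => mem_normalizer_fintype fun w hw => by
    rw [← hM.central w ((hW w).1 hw).1 ((hW w).1 hw).2 t ht, mul_inv_cancel_right]
    exact hw
  set M := (normalizerMonoidHom W).range
  have hMo : Odd (Nat.card M) := by
    have hker : Tb.subgroupOf (normalizer (W : Set (L ⧸ center L))) ≤ (normalizerMonoidHom W).ker := fun t ht => by
      rw [normalizerMonoidHom_ker, mem_subgroupOf, mem_centralizer_iff]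
      exact fun w hw => hM.central w ((hW w).1 hw).1 ((hW w).1 hw).2 _ ht
    have h1 : (normalizerMonoidHom W).ker.index ∣ Tb.index :=
      (index_dvd_of_le hker).trans (relIndex_dvd_index_of_le hTN)
    rw [index_ker] at h1
    refine Odd.of_dvd_nat (Nat.odd_iff.2 (Nat.two_dvd_ne_zero.1 ?_)) h1
    rw [hTb, ← Sylow.coe_mapSurjective hqs]
    exact (T.mapSurjective hqs).not_dvd_index
  have hn : ∀ μ ∈ M, β * μ * β⁻¹ ∈ M := by
    rintro _ ⟨⟨x, hx⟩, rfl⟩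
    refine ⟨⟨α x, mem_normalizer_fintype fun w hw => ?_⟩, MulEquiv.ext fun w => Subtype.ext ?_⟩
    · have h1 : x * α w * x⁻¹ ∈ W := (mem_normalizer_iff.1 hx (α w)).1 (hαW w hw)
      have h2 := hαW _ h1
      rwa [map_mul, map_mul, map_inv, hαα w hw] at h2
    · show α x * w * (α x)⁻¹ = α (x * α w * x⁻¹)
      rw [map_mul, map_mul, map_inv, hαα _ w.2]
  have htr : ∀ a : W, a ≠ 1 → ∀ b : W, b ≠ 1 → ∃ μ ∈ M, μ a = b := by
    intro a ha b hb
    obtain ⟨τ, hτ, htrans⟩ := hM.torus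
    obtain ⟨i, hi⟩ := htrans a ((hW _).1 a.2).1 ((hW _).1 a.2).2 (fun e' => ha (Subtype.ext e')) b
      ((hW _).1 b.2).1 ((hW _).1 b.2).2 (fun e' => hb (Subtype.ext e'))
    have hτW : τ ^ i ∈ normalizer (W : Set (L ⧸ center L)) := mem_normalizer_fintype fun w hw => by
      refine (hW _).2 ⟨(mem_normalizer_iff.1 (pow_mem hτ i) w).1 ((hW w).1 hw).1, ?_⟩
      rw [show τ ^ i * w * (τ ^ i)⁻¹ * (τ ^ i * w * (τ ^ i)⁻¹) = τ ^ i * (w * w) * (τ ^ i)⁻¹ by group,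
        ((hW w).1 hw).2, mul_one, mul_inv_cancel]
    exact ⟨_, ⟨⟨τ ^ i, hτW⟩, rfl⟩, Subtype.ext hi⟩
  have hfixW := fixes_all_of_odd hW8 (fun w => Subtype.ext ((hW _).1 w.2).2) β
    (fun w => Subtype.ext (hαα _ w.2)) M hMo hn htr
  have hzero : ∀ d, d ∈ RK A z' L → d ∈ Z → d = 1 := fun d h1 h2 => Subgroup.mem_bot.1 (hdis ▸ ⟨h1, h2⟩)
  have hfixR : ∀ r ∈ RK A z' L, e * r * e⁻¹ = r := fun r hr => by
    refine mul_inv_eq_one.1 (hzero _ (mul_mem ?_ (inv_mem hr)) (hδ r hr.2))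
    refine (h.mem_RK hz' (hconj r hr.2)).2 ?_
    rw [hproj r hr.2]
    exact (mem_normalizer_iff.1 (CfsgLib.Coprime.normalizer_le_normalizer_centralizer L hLn) _).1
      ((h.mem_RK hz' hr.2).1 hr)
  have hfixV : ∀ v ∈ VK A z' L, e * v * e⁻¹ = v := fun v hv => by
    refine mul_inv_eq_one.1 (hzero _ ?_ (hδ v hv.2))
    have hl := (h.mem_VK hz' hv.2).1 hv
    obtain ⟨hl', he⟩ := hαa v hv.2 hl
    have h1 : α (q ⟨_, hl⟩) = q ⟨_, hl⟩ := congrArg Subtype.val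
      (hfixW ⟨_, mem_map_of_mem q (show (⟨_, hl⟩ : L) ∈ (img A z').subgroupOf L from h.proj_mem_img hz' hv.2)⟩)
    rw [he] at h1
    refine (h.mem_inf_of_center hz' (mul_mem (hconj v hv.2) (inv_mem hv.2)) (z := ⟨_, hl'⟩ * (⟨_, hl⟩ : L)⁻¹) ?_ ?_).1
    · rw [← QuotientGroup.eq_one_iff]
      show q _ = 1
      rw [map_mul, map_inv, h1, mul_inv_cancel]
    · show proj z' _ = _
      push_cast
      rw [← map_inv, ← map_mul]
      rfl
  intro a ha
  obtain ⟨r, hr, v, hv, rfl⟩ := h.exists_mul hF hz' ho hL.1 ha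
  calc e * (r * v) * e⁻¹ = (e * r * e⁻¹) * (e * v * e⁻¹) := by group
    _ = r * v := by rw [hfixR r hr, hfixV v hv]

/-- The traces of a met component meet trivially. -/
theorem pair_inf_eq_bot (h : Setting S A) (hF : FormModelStmt.{u}) {y : G} {R V : Subgroup G}
    (hp : IsPairAt A y R V) : R ⊓ V = ⊥ := by
  haveI := Fact.mk Nat.prime_two
  by_contra hcov
  induction hn : Nat.card A - Nat.card V using Nat.strongRecOn generalizing y R V with
  | ind k ih =>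
  subst hn
  have hsame : ∀ y' ∈ R, orderOf y' = 2 → IsPairAt A y' R V := by
    intro y' hy' ho'
    obtain ⟨R', V', hp', hVV, hRR, hZ⟩ := h.pair_transfer hF hp hy' ho'
    obtain ⟨K, hK, rfl, rfl⟩ := h.exists_met_of_isPairAt hp
    obtain ⟨L, hL, rfl, rfl⟩ := h.exists_met_of_isPairAt hp'
    set Z := RK A y K ⊓ VK A y K
    have hZZ : Z ≤ RK A y' L ⊓ VK A y' L := le_inf hZ (inf_le_right.trans hVV)
    have hcov' : RK A y' L ⊓ VK A y' L ≠ ⊥ := fun e => hcov (le_bot_iff.1 (hZZ.trans e.le))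
    have hVA : Nat.card (VK A y' L) ≤ Nat.card A := Nat.le_of_dvd Nat.card_pos (card_dvd_of_le inf_le_right)
    have heV : VK A y K = VK A y' L := by
      by_contra hne
      have hlt : Nat.card (VK A y K) < Nat.card (VK A y' L) := lt_of_not_ge fun hh =>
        hne (eq_of_le_of_card_ge hVV hh)
      exact ih _ (by omega) hp' hcov' rfl
    have heR : RK A y' L = RK A y K := by
      refine le_antisymm hRR fun r hr => ?_
      obtain ⟨r', hr', v', hv', rfl⟩ := h.exists_mul hF hy'.2 ho' hL.1 hr.2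
      have hvZ : v' ∈ Z := ⟨by
        have := mul_mem (inv_mem (hRR hr')) hr
        rwa [inv_mul_cancel_left] at this, heV ▸ hv'⟩
      exact mul_mem hr' (hZ hvZ)
    rwa [heR, ← heV] at hp'
  obtain ⟨K, hK, rfl, rfl⟩ := h.exists_met_of_isPairAt hp
  have hy := hp.1.1
  have ho := hp.1.2.1
  set R := RK A y K
  set V := VK A y K
  set Z := R ⊓ V
  have hfin : ∀ {y : G}, y ∈ A → y ≠ 1 → orderOf y = 2 := fun hy hy1 => h.orderOf_eq hy hy1
  -- a conjugate of `R` disjoint from it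
  obtain ⟨n, hn, hdis⟩ : ∃ n ∈ normalizer (A : Set G), R.map (MulAut.conj n).toMonoidHom ⊓ R = ⊥ := by
    by_contra hcon
    push Not at hcon
    have hle : ∀ n ∈ normalizer (A : Set G), ∀ z ∈ Z, n * z * n⁻¹ ∈ R := fun n hn z hz => by
      obtain ⟨r, hr, hr1⟩ := (R.map (MulAut.conj n).toMonoidHom ⊓ R).bot_or_exists_ne_one.resolve_left (hcon n hn)
      obtain ⟨r₀, hr₀, e⟩ := hr.1
      have hr₀1 : r₀ ≠ 1 := fun e' => hr1 (by rw [← e, e', map_one])
      have hp1 := isPairAt_map_conj (hsame r₀ hr₀ (hfin hr₀.2 hr₀1)) hn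
      rw [show n * r₀ * n⁻¹ = r from e] at hp1
      have hzc : n * z * n⁻¹ ∈ V.map (MulAut.conj n).toMonoidHom := ⟨z, hz.2, rfl⟩
      rcases h.pair_eq_or_le hF (hsame r hr.2 (hfin hr.2.2 hr1)) hp1 with ⟨e1, -⟩ | ⟨e1, -⟩
      · exact e1.le ⟨z, hz.1, rfl⟩
      · exact e1 hzc
    set W := closure {x | ∃ n ∈ normalizer (A : Set G), ∃ z ∈ Z, n * z * n⁻¹ = x}
    have hWR : W ≤ R := (closure_le _).2 (by rintro _ ⟨n, hn, z, hz, rfl⟩; exact hle n hn z hz)
    rcases h.irreducible (hWR.trans inf_le_right) fun n hn x hx => by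
        induction hx using closure_induction with
        | mem x hx =>
          obtain ⟨m, hm, z, hz, rfl⟩ := hx
          exact subset_closure ⟨n * m, mul_mem hn hm, z, hz, by group⟩
        | one => simp [one_mem]
        | mul a b _ _ ha hb =>
          rw [show n * (a * b) * n⁻¹ = n * a * n⁻¹ * (n * b * n⁻¹) by group]
          exact mul_mem ha hb
        | inv a _ ha =>
          rw [show n * a⁻¹ * n⁻¹ = (n * a * n⁻¹)⁻¹ by group]
          exact inv_mem ha with e | e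
    · exact hcov ((Subgroup.eq_bot_iff_forall _).2 fun z hz => (Subgroup.eq_bot_iff_forall _).1 e z
        (subset_closure ⟨1, one_mem _, z, hz, by group⟩))
    · exact h.RK_ne_top hy hK.2 (le_antisymm inf_le_right (e.ge.trans hWR))
  set R' := R.map (MulAut.conj n).toMonoidHom with hR'
  have hy' : n * y * n⁻¹ ∈ R' := ⟨y, h.self_mem_RK hy K, rfl⟩
  have hp' := isPairAt_map_conj hp hn
  have hy'1 : n * y * n⁻¹ ≠ 1 := fun e => by
    have := hp'.1.2.1
    rw [e, orderOf_one] at this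
    norm_num at this
  obtain ⟨L, hL, hLR, hLV⟩ := h.exists_met_of_isPairAt hp'
  have hcov' : RK A (n * y * n⁻¹) L ⊓ VK A (n * y * n⁻¹) L ≠ ⊥ := fun e => hcov <| by
    rw [← hLR, ← hLV] at e
    change R.map (MulAut.conj n).toMonoidHom ⊓ V.map (MulAut.conj n).toMonoidHom = ⊥ at e
    rw [← map_inf _ _ _ (MulAut.conj n).injective] at e
    exact map_injective (MulAut.conj n).injective (e.trans (Subgroup.map_bot _).symm)
  obtain ⟨e, heA, hδ, hefix, her', a, ha, hamove⟩ := h.exists_mover hF hy ho hK hcov hp'.1.1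
    fun hh => hy'1 (Subgroup.mem_bot.1 (hdis ▸ ⟨hy', hh⟩))
  refine hamove (h.mover_fixes hF hp'.1.1 hp'.1.2.1 hL hcov' heA her' (Z := R ⊓ V) (fun z hz => hefix z hz.1) hδ ?_ ?_ a ha)
  · rw [← hLR]
    exact le_bot_iff.1 (le_of_le_of_eq (inf_le_inf_left _ inf_le_left) hdis)
  rw [← hLR]
  intro hA
  have hR'A : R' ≤ A := hLR.le.trans inf_le_right
  have hZA : Z ≤ A := inf_le_left.trans inf_le_right
  have hdZ : R' ⊓ Z = ⊥ := le_bot_iff.1 (le_of_le_of_eq (inf_le_inf_left _ inf_le_left) hdis)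
  have hRZ : R ≤ Z := fun r hr => by
    obtain ⟨r', hr', z, hz, rfl⟩ := CfsgLib.Coprime.mem_sup_exists (N := R') (H := Z)
      (fun z hz => centralizer_le_normalizer _ (mem_centralizer_iff.2 fun r' hr' =>
        h.commute_mem (hR'A hr') (hZA hz))) (hA hr.2)
    have h1 : r' ∈ R := by
      have := mul_mem hr (inv_mem hz.1)
      rwa [mul_inv_cancel_right] at this
    rw [Subgroup.mem_bot.1 (hdis ▸ ⟨hr', h1⟩ : r' ∈ (⊥ : Subgroup G)), one_mul]
    exact hz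
  have hcard := h.card_mul_card hR'A hZA (le_antisymm (sup_le hR'A hZA) hA) hdZ
  obtain ⟨-, -, -, -, -, -, -, -, -, h8, h4⟩ := h.covered_data hF hy ho hK hcov
  have h1 : Nat.card R' ≤ Nat.card Z := by
    rw [hR', card_map_of_injective (MulAut.conj n).injective]
    exact Nat.le_of_dvd Nat.card_pos (card_dvd_of_le hRZ)
  have h2 : Nat.card V ≤ Nat.card A := Nat.le_of_dvd Nat.card_pos (card_dvd_of_le inf_le_right)
  have h3 : 0 < Nat.card Z := Nat.card_pos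
  rw [← hcard, h8] at h2
  nlinarith

end Setting

end CfsgLib.Gold
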