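import Cfsg.Agent.Lib.Goldschmidt.Defs

/-!
# The components at the involutions of `A`: the interface

`img A y` is the image of `A` in `C(y)` modulo its odd core. A component is met if it is not centralized by
`img A y`; the pairs of `A` are those of the met components.

To be proved from a setting: `PairFactsStmt`, `CompFactsStmt`.
-/

set_option autoImplicit false

namespace CfsgLib.Gold

open Subgroup

universe u

variable {G : Type u} [Group G]

/-- The image of `A` in the centralizer of `y` modulo its odd core. -/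
def img (A : Subgroup G) (y : G) : Subgroup (CfsgLib.Walter.Rank.CQ y) :=
  (A.subgroupOf (centralizer ({y} : Set G))).map (CfsgLib.Walter.Rank.proj y)

/-- A component at `y` is met by `A`. -/
def IsMet (A : Subgroup G) (y : G) (K : Subgroup (CfsgLib.Walter.Rank.CQ y)) : Prop :=
  Cfsg.IsComponent K ∧ ¬ img A y ≤ centralizer (K : Set (CfsgLib.Walter.Rank.CQ y))

/-- The facts on the pairs. -/
structure PairFacts (A : Subgroup G) : Prop where
  mem_left : ∀ (y : G) (R V : Subgroup G), IsPairAt A y R V → y ∈ R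
  sup_eq : ∀ (y : G) (R V : Subgroup G), IsPairAt A y R V → R ⊔ V = A
  inf_eq : ∀ (y : G) (R V : Subgroup G), IsPairAt A y R V → R ⊓ V = ⊥
  card_eq : ∀ (y : G) (R V : Subgroup G), IsPairAt A y R V → Nat.card R * Nat.card V = Nat.card A
  four_le : ∀ (y : G) (R V : Subgroup G), IsPairAt A y R V → 4 ≤ Nat.card V
  torus : ∀ (y : G) (R V : Subgroup G), IsPairAt A y R V →
    ∃ n ∈ normalizer (A : Set G), (∀ r ∈ R, n * r * n⁻¹ = r) ∧ (∀ v ∈ V, n * v * n⁻¹ ∈ V) ∧
      ∀ v ∈ V, v ≠ 1 → ∀ w ∈ V, w ≠ 1 → ∃ i : ℕ, n ^ i * v * (n ^ i)⁻¹ = w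
  transfer : ∀ (y : G) (R V : Subgroup G), IsPairAt A y R V → ∀ y' ∈ R, orderOf y' = 2 →
    ∃ R' V', IsPairAt A y' R' V' ∧ V ≤ V' ∧ R' ≤ R
  eq_or_le : ∀ (y : G) (R V R' V' : Subgroup G), IsPairAt A y R V → IsPairAt A y R' V' →
    (R' = R ∧ V' = V) ∨ V' ≤ R
  map_conj : ∀ (y : G) (R V : Subgroup G), IsPairAt A y R V → ∀ n ∈ normalizer (A : Set G),
    IsPairAt A (n * y * n⁻¹) (R.map (MulAut.conj n).toMonoidHom) (V.map (MulAut.conj n).toMonoidHom)

/-- The facts on the components at an involution of `A`. -/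
structure CompFacts (A : Subgroup G) : Prop where
  /-- `A` normalizes every component -/
  normalizes : ∀ y ∈ A, orderOf y = 2 → ∀ K : Subgroup (CfsgLib.Walter.Rank.CQ y), Cfsg.IsComponent K →
    img A y ≤ normalizer (K : Set (CfsgLib.Walter.Rank.CQ y))
  /-- a met component gives a pair -/
  isPairAt : ∀ y ∈ A, orderOf y = 2 → ∀ K : Subgroup (CfsgLib.Walter.Rank.CQ y), IsMet A y K →
    IsPairAt A y (CfsgLib.Walter.Rank.pre y (centralizer (K : Set (CfsgLib.Walter.Rank.CQ y))) ⊓ A)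
      (CfsgLib.Walter.Rank.pre y K ⊓ A)
  /-- a pair comes from a met component -/
  exists_met : ∀ (y : G) (R V : Subgroup G), IsPairAt A y R V →
    ∃ K : Subgroup (CfsgLib.Walter.Rank.CQ y), IsMet A y K ∧ V = CfsgLib.Walter.Rank.pre y K ⊓ A ∧
      R = CfsgLib.Walter.Rank.pre y (centralizer (K : Set (CfsgLib.Walter.Rank.CQ y))) ⊓ A
  /-- a met component is simple and in the list -/
  form : ∀ y ∈ A, orderOf y = 2 → ∀ K : Subgroup (CfsgLib.Walter.Rank.CQ y), IsMet A y K →
    IsSimpleGroup K ∧ ¬ IsMulCommutative K ∧ Form K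
  /-- `A` cuts a met component in the involutions of one of its Sylow subgroups -/
  omega : ∀ y ∈ A, orderOf y = 2 → ∀ K : Subgroup (CfsgLib.Walter.Rank.CQ y), IsMet A y K →
    ∃ T : Sylow 2 K, ∀ x : K, (x : CfsgLib.Walter.Rank.CQ y) ∈ img A y ↔ x ∈ (T : Subgroup K) ∧ x * x = 1
  /-- the action of `A` on a component is inner -/
  split : ∀ y ∈ A, orderOf y = 2 → ∀ K : Subgroup (CfsgLib.Walter.Rank.CQ y), Cfsg.IsComponent K →
    ∀ b ∈ img A y, ∃ v ∈ img A y ⊓ K, b * v⁻¹ ∈ centralizer (K : Set (CfsgLib.Walter.Rank.CQ y))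
  /-- at a component with abelian Sylow subgroups the `2`-elements centralizing `A` act as elements of `A` -/
  split_two : ∀ y ∈ A, orderOf y = 2 → ∀ K : Subgroup (CfsgLib.Walter.Rank.CQ y), IsMet A y K →
    CfsgLib.Walter.AbTwo K → ∀ (g : CfsgLib.Walter.Rank.CQ y) (k : ℕ), g ^ 2 ^ k = 1 →
      g ∈ centralizer (img A y : Set (CfsgLib.Walter.Rank.CQ y)) →
        ∃ v ∈ img A y ⊓ K, g * v⁻¹ ∈ centralizer (K : Set (CfsgLib.Walter.Rank.CQ y))
  /-- `A` lies in the met components and `O₂` -/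
  le_sup : ∀ y ∈ A, orderOf y = 2 → img A y ≤
    sSup {K : Subgroup (CfsgLib.Walter.Rank.CQ y) | IsMet A y K} ⊔ Cfsg.pCore 2 (CfsgLib.Walter.Rank.CQ y)
  /-- the Frattini argument -/
  frattini : ∀ y ∈ A, orderOf y = 2 → ∀ N : Subgroup (CfsgLib.Walter.Rank.CQ y), N.Normal → img A y ≤ N →
    centralizer ({y} : Set G) ≤
      CfsgLib.Walter.Rank.pre y N ⊔ (centralizer ({y} : Set G) ⊓ normalizer (A : Set G))

/-- The obligation on the pairs. -/
def PairFactsStmt : Prop :=
  ∀ (G : Type u) [Group G] [Finite G] (S : Sylow 2 G) (A : Subgroup G), Setting S A → PairFacts A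

/-- The obligation on the components. -/
def CompFactsStmt : Prop :=
  ∀ (G : Type u) [Group G] [Finite G] (S : Sylow 2 G) (A : Subgroup G), Setting S A → CompFacts A

end CfsgLib.Gold
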