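import Cfsg.Agent.Lib.Goldschmidt.Defs
import Cfsg.Agent.Lib.Bender.Full.Main
import Cfsg.Agent.Lib.Bender.Binary.Models
import Cfsg.Agent.Lib.FT.NoMinSimple

/-!
# Centralizers of involutions in the groups of the list

They are solvable, unless the group is of centralizer form.
-/

set_option autoImplicit false
set_option linter.style.haveILetI false

namespace CfsgLib.Gold

open Subgroup

universe u

variable {Y : Type u} [Group Y] [Finite Y]

/-- In a simple group with a strongly embedded subgroup and two commuting involutions the centralizers of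
involutions are solvable. -/
theorem isSolvable_centralizer_of_se (hs : IsSimpleGroup Y) {M : Subgroup Y} (hM : Cfsg.IsStronglyEmbedded M)
    (hp : CfsgLib.Bender.HasPair Y) {t : Y} (ht : orderOf t = 2) :
    Group.IsSolvable ↥(centralizer ({t} : Set Y)) := by
  classical
  haveI := Fact.mk Nat.prime_two
  haveI := hs
  have hcore : M.normalCore = ⊥ := (inferInstance : M.normalCore.Normal).eq_bot_or_eq_top.resolve_right
    fun e => hM.1 (top_unique (e ▸ M.normalCore_le))
  obtain ⟨Q, hQM, hMQ, hQ2, hreg⟩ := CfsgLib.Bender.Full.fullStatement Y M hM hcore hp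
  obtain ⟨k, hk⟩ : ∃ k, k ∉ M := by
    by_contra hc
    exact hM.1 ((eq_top_iff' M).2 fun x => not_not.1 fun h => hc ⟨x, h⟩)
  set D := M ⊓ M.map (MulAut.conj k).toMonoidHom
  have hsolM : Group.IsSolvable M := by
    haveI : (Q.subgroupOf M).Normal := (normal_subgroupOf_iff_le_normalizer hQM).2 hMQ
    haveI : Group.IsSolvable D := CfsgLib.FT.isSolvable_of_odd _ (hM.2.2 k hk)
    haveI : Group.IsNilpotent (Q.subgroupOf M) := (hQ2.comap_of_injective _ M.subtype_injective).isNilpotent
    haveI : Group.IsSolvable (M ⧸ Q.subgroupOf M) := by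
      refine Group.isSolvable_of_surjective
        (f := (QuotientGroup.mk' (Q.subgroupOf M)).comp (inclusion (inf_le_left : D ≤ M))) fun z => ?_
      obtain ⟨⟨m, hm⟩, rfl⟩ := QuotientGroup.mk'_surjective _ z
      obtain ⟨x, ⟨hx, hxm⟩, -⟩ := hreg (m * k) k
        (fun h => hk (by simpa using mul_mem (inv_mem hm) h)) hk
      have hD : x * m ∈ D := by
        refine ⟨mul_mem (hQM hx) hm, k⁻¹ * (x * (m * k)), hxm, ?_⟩
        show k * (k⁻¹ * (x * (m * k))) * k⁻¹ = x * m
        group
      refine ⟨⟨x * m, hD⟩, QuotientGroup.eq.2 ?_⟩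
      show ((⟨x * m, hD.1⟩ : M)⁻¹ * ⟨m, hm⟩ : M) ∈ Q.subgroupOf M
      rw [mem_subgroupOf]
      show (x * m)⁻¹ * m ∈ Q
      have := (mem_normalizer_iff.1 (hMQ (inv_mem hm)) x⁻¹).1 (inv_mem hx)
      simpa [mul_assoc] using this
    exact Group.isSolvable_of_ker_le_range (Q.subgroupOf M).subtype (QuotientGroup.mk' (Q.subgroupOf M))
      (by rw [QuotientGroup.ker_mk', range_subtype])
  -- the index is one more than the order of `Q`
  set a : Y ⧸ M := ((1 : Y) : Y ⧸ M)
  have hcard : Nat.card (Y ⧸ M) = Nat.card Q + 1 := by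
    have e : Nat.card Q = ({a}ᶜ : Set (Y ⧸ M)).ncard := by
      rw [← Nat.card_coe_set_eq]
      refine Nat.card_eq_of_bijective (fun x => ⟨((x : Y) * k : Y), fun h => hk ?_⟩) ⟨?_, ?_⟩
      · have h1 := QuotientGroup.eq.1 (Set.mem_singleton_iff.1 h)
        rw [mul_one, inv_mem_iff] at h1
        simpa using mul_mem (inv_mem (hQM x.2)) h1
      · intro x x' h
        have h1 := QuotientGroup.eq.1 (congrArg Subtype.val h).symm
        obtain ⟨u, -, huniq⟩ := hreg ((x : Y) * k) ((x : Y) * k)
          (fun h => hk (by simpa using mul_mem (inv_mem (hQM x.2)) h))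
          (fun h => hk (by simpa using mul_mem (inv_mem (hQM x.2)) h))
        have e1 := huniq ((x' : Y) * (x : Y)⁻¹) ⟨mul_mem x'.2 (inv_mem x.2), by
          have := inv_mem h1
          simpa [mul_assoc] using this⟩
        have e2 := huniq 1 ⟨one_mem _, by simp [one_mem]⟩
        exact Subtype.ext (mul_inv_eq_one.1 (e1.trans e2.symm)).symm
      · rintro ⟨c, hc⟩
        induction c using QuotientGroup.induction_on with
        | H g =>
          have hg : g ∉ M := fun h => hc (Set.mem_singleton_iff.2 (QuotientGroup.eq.2 (by simpa using h)))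
          obtain ⟨x, ⟨hx, hxg⟩, -⟩ := hreg k g hk hg
          exact ⟨⟨x, hx⟩, Subtype.ext (QuotientGroup.eq.2 (by
            have := inv_mem hxg
            simpa [mul_assoc] using this))⟩
    rw [e, Set.ncard_compl, Set.ncard_singleton]
    have : 0 < Nat.card (Y ⧸ M) := Nat.card_pos
    omega
  have hQne : Q ≠ ⊥ := fun e => by
    rw [e, card_bot, ← index_eq_card] at hcard
    haveI := normal_of_index_eq_two hcard
    rw [Subgroup.normalCore_eq_self] at hcore
    have := hM.2.1
    rw [hcore, card_bot] at this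
    exact Nat.not_even_one this
  have hodd : Odd (Nat.card (Y ⧸ M)) := by
    obtain ⟨j, hj⟩ := IsPGroup.iff_card.1 hQ2
    rw [hcard, hj]
    refine Even.add_one ((Nat.even_pow).2 ⟨even_two, fun h0 => hQne ?_⟩)
    exact Subgroup.card_eq_one.1 (by rw [hj, h0, pow_zero])
  -- `t` fixes a coset
  obtain ⟨c, hc⟩ : ∃ c : Y ⧸ M, t • c = c := by
    have hT : IsPGroup 2 (zpowers t) := IsPGroup.of_card (n := 1) (by rw [pow_one, Nat.card_zpowers, ht])
    obtain ⟨c, hc⟩ := hT.nonempty_fixed_point_of_prime_not_dvd_card (Y ⧸ M) (Nat.odd_iff.1 hodd |> fun h =>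
      fun hd => by omega)
    exact ⟨c, hc ⟨t, mem_zpowers t⟩⟩
  obtain ⟨g, rfl⟩ := QuotientGroup.mk_surjective c
  rw [MulAction.Quotient.smul_coe, smul_eq_mul, QuotientGroup.eq] at hc
  have htM : g⁻¹ * t * g ∈ M := by
    have := inv_mem hc
    simpa [mul_assoc] using this
  have hle : centralizer ({t} : Set Y) ≤ M.map (MulAut.conj g).toMonoidHom := by
    intro x hx
    refine ⟨g⁻¹ * x * g, CfsgLib.Invol.mem_of_conj_mem hM htM
      (by simpa using CfsgLib.Invol.invol_conj ht g⁻¹) ?_, by simp [mul_assoc]⟩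
    have e : g⁻¹ * x * g * (g⁻¹ * t * g) * (g⁻¹ * x * g)⁻¹ = g⁻¹ * (x * t * x⁻¹) * g := by group
    rw [e, mem_centralizer_singleton_iff.1 hx, mul_inv_cancel_right]
    exact htM
  haveI : Group.IsSolvable (M.map (MulAut.conj g).toMonoidHom) :=
    Group.isSolvable_of_surjective ((MulAut.conj g).toMonoidHom.subgroupMap_surjective M)
  exact Group.isSolvable_of_isSolvable_injective (f := inclusion hle) (inclusion_injective hle)

/-- Apart from the groups of centralizer form, the centralizers of involutions in the list are solvable. -/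
theorem centForm_or_isSolvable (hs : IsSimpleGroup Y) (hf : Form Y) (hp : CfsgLib.Bender.HasPair Y) :
    CfsgLib.Walter.CentForm Y ∨ ∀ t : Y, orderOf t = 2 → Group.IsSolvable ↥(centralizer ({t} : Set Y)) := by
  rcases hf with hc | ⟨F, i1, i2, hn, he⟩ | hsz | ⟨F, i1, i2, n, hn, hF, ⟨e⟩⟩
  · exact Or.inl hc
  · exact Or.inl (Or.inl ⟨F, i1, i2, Or.inl hn, he⟩)
  · obtain ⟨F, i1, i2, m, hm, hF, ⟨e⟩⟩ := hsz
    obtain ⟨f⟩ := CfsgLib.Lie.Suz.exists_twEquiv (F := F) (m := m) hm hF
    haveI : Fact (Nat.Prime 2) := ⟨Nat.prime_two⟩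
    haveI : CharP F 2 := charP_of_card_eq_prime_pow (f := 2 * m + 1) hF
    obtain ⟨M, hM⟩ := CfsgLib.Bender.Binary.se_map (e.trans f.symm) (CfsgLib.Bender.Binary.se_sz hm hF)
    exact Or.inr fun t ht => isSolvable_centralizer_of_se hs hM hp ht
  · obtain ⟨M, hM⟩ := CfsgLib.Bender.Binary.se_map e (CfsgLib.Bender.Binary.se_psu hn hF)
    exact Or.inr fun t ht => isSolvable_centralizer_of_se hs hM hp ht

end CfsgLib.Gold
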