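import Cfsg.Agent.Lib.Goldschmidt.Comp.Center
import Cfsg.Agent.Lib.Goldschmidt.Comp.Solv
import Cfsg.Agent.Lib.Walter.Rank.Transfer

/-!
# A perfect subgroup of the layer centralizing an element of `B`

It lies in a component which `B` does not centralize.
-/

set_option autoImplicit false
set_option linter.style.haveILetI false

namespace CfsgLib.Gold

open Subgroup

universe u

variable {X : Type u} [Group X] [Finite X] {P : Sylow 2 X} {B : Subgroup X}

namespace Loc

/-- A simple quotient with enough involutions in a Sylow subgroup has two commuting involutions. -/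
theorem _root_.CfsgLib.Gold.Model.hasPair {Y : Type u} [Group Y] [Finite Y] {T : Subgroup Y} (hM : Model Y T) :
    CfsgLib.Bender.HasPair Y := by
  classical
  set Ω := {x : Y // x ∈ T ∧ x * x = 1}
  obtain ⟨a, ha, b, hb, hab⟩ : ∃ a : Ω, a.1 ≠ 1 ∧ ∃ b : Ω, b.1 ≠ 1 ∧ a ≠ b := by
    by_contra hc
    push Not at hc
    haveI : Fintype Ω := Fintype.ofFinite _
    have h2 : (Finset.univ : Finset Ω).card ≤ 2 := by
      have hsplit := Finset.card_filter_add_card_filter_not (s := (Finset.univ : Finset Ω)) (fun x => x.1 = 1)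
      have h1 : ((Finset.univ : Finset Ω).filter fun x => x.1 = 1).card ≤ 1 :=
        Finset.card_le_one.2 fun a ha b hb => Subtype.ext
          ((Finset.mem_filter.1 ha).2.trans (Finset.mem_filter.1 hb).2.symm)
      have h3 : ((Finset.univ : Finset Ω).filter fun x => ¬ x.1 = 1).card ≤ 1 :=
        Finset.card_le_one.2 fun a ha b hb => hc a (Finset.mem_filter.1 ha).2 b (Finset.mem_filter.1 hb).2
      omega
    have h4 : 4 ≤ Nat.card Ω := hM.four
    rw [Nat.card_eq_fintype_card, ← Finset.card_univ] at h4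
    omega
  exact ⟨a.1, b.1, orderOf_eq_prime (by rw [pow_two, a.2.2]) ha, orderOf_eq_prime (by rw [pow_two, b.2.2]) hb,
    fun e => hab (Subtype.ext e), hM.central _ a.2.1 a.2.2 _ b.2.1⟩

/-- The perfect subgroup lies in a component which `B` does not centralize. -/
theorem cover_le (h : Loc P B)
    (hform : ∀ L : Subgroup X, Cfsg.IsComponent L → ¬ B ≤ centralizer (L : Set X) → Form (L ⧸ center L))
    {x : X} (hx : x ∈ B) {Γ : Type u} [Group Γ] [Finite Γ] (φ : Γ →* X) (hperf : commutator Γ = ⊤)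
    (hcomm : ∀ a, Commute (φ a) x) (hsn : (φ.range.subgroupOf (centralizer ({x} : Set X))).IsSubnormal)
    (hlayer : φ.range ≤ Cfsg.layer X) (hne : φ.range ≠ ⊥)
    (hnorm : ∀ N : Subgroup Γ, N.Normal → N = ⊤ ∨ Group.IsSolvable N)
    {w : Γ} (hwB : φ w ∈ B) (hw : ∀ N : Subgroup Γ, N.Normal → w ∈ N → N = ⊤) :
    ∃ L : Subgroup X, Cfsg.IsComponent L ∧ ¬ B ≤ centralizer (L : Set X) ∧ φ.range ≤ L ∧
      (∀ N : Subgroup Γ, N.Normal → ¬ 2 ∣ Nat.card N → N.map φ = ⊥) ∧
      ∀ a, (∀ b, Commute (φ a) (φ b)) → φ a ∈ centralizer (L : Set X) := by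
  haveI := Fact.mk Nat.prime_two
  set J := φ.range with hJ
  have hJp : ⁅J, J⁆ = J := by
    rw [hJ, MonoidHom.range_eq_map, ← map_commutator]
    exact congrArg _ hperf
  have hJn : ∀ {K : Subgroup X}, Cfsg.IsComponent K → J ≤ normalizer (K : Set X) ∧
      J ≤ normalizer (centralizer (K : Set X) : Set X) := fun {K} hK => by
    have h1 := hlayer.trans (CfsgLib.Walter.Rank.layer_le_sup_centralizer hK)
    refine ⟨h1.trans (sup_le (centralizer_le_normalizer _) le_normalizer), h1.trans (sup_le le_normalizer ?_)⟩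
    exact CfsgLib.Walter.Rank.le_normalizer_centralizer K
  obtain ⟨L, hL, hJL⟩ : ∃ L : Subgroup X, Cfsg.IsComponent L ∧ ¬ J ≤ centralizer (L : Set X) := by
    by_contra hcon
    push Not at hcon
    refine hne ?_
    rw [← hJp, commutator_eq_bot_iff_le_centralizer, le_centralizer_iff]
    refine hlayer.trans (sSup_le fun K hK => le_centralizer_iff.1 (hcon K hK))
  set C := centralizer (L : Set X)
  have hm : ¬ B ≤ C := fun hle => by
    haveI : (C.comap φ).Normal := ⟨fun n hn a => by
      rw [mem_comap, map_mul, map_mul, map_inv]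
      exact (mem_normalizer_iff.1 ((hJn hL).2 ⟨a, rfl⟩) _).1 hn⟩
    refine hJL ?_
    rintro _ ⟨a, rfl⟩
    have h1 := hw (C.comap φ) inferInstance (hle hwB)
    exact mem_comap.1 (h1 ▸ mem_top a : a ∈ C.comap φ)
  obtain ⟨T, hT, hM, -⟩ := h.met_spec hL hm
  set q := QuotientGroup.mk' (center L) with hq
  have hqs : Function.Surjective q := QuotientGroup.mk'_surjective _
  obtain ⟨v, hv, hvc⟩ := h.split hL hx
  -- `l ∈ L` commutes with `x` iff with `v`
  have hxl : ∀ l ∈ L, (Commute l x ↔ Commute l v) := fun l hl => by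
    have hcl : Commute l (x * v⁻¹) := mem_centralizer_iff.1 hvc l hl
    refine ⟨fun h1 => ?_, fun h1 => ?_⟩
    · have := hcl.inv_right.mul_right h1
      rwa [mul_inv_rev, inv_inv, inv_mul_cancel_right] at this
    · have := hcl.mul_right h1
      rwa [inv_mul_cancel_right] at this
  -- the parts in `L` of the elements of `J` centralize `v` modulo the centre
  have hJv : ∀ a ∈ J, ∃ c ∈ C, ∃ l : L, Commute (q l) (q ⟨v, hv.2⟩) ∧ c * (l : X) = a := by
    intro a ha
    obtain ⟨c, hc, l, hl, rfl⟩ := CfsgLib.Coprime.mem_sup_exists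
      (CfsgLib.Walter.Rank.le_normalizer_centralizer L)
      (CfsgLib.Walter.Rank.layer_le_sup_centralizer hL (hlayer ha))
    refine ⟨c, hc, ⟨l, hl⟩, ?_, rfl⟩
    have hcn : ∀ z ∈ C, l * z * l⁻¹ ∈ C := fun z hz =>
      (mem_normalizer_iff.1 (CfsgLib.Walter.Rank.le_normalizer_centralizer L hl) z).1 hz
    obtain ⟨d, hd⟩ := ha
    have e1 : c * l * x * (c * l)⁻¹ = x := by rw [← hd, (hcomm d).eq, mul_inv_cancel_right]
    have hlv : l * v * l⁻¹ ∈ L := mul_mem (mul_mem hl hv.2) (inv_mem hl)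
    have hc' : Commute c (l * v * l⁻¹) := (mem_centralizer_iff.1 hc _ hlv).symm
    have e2 : (c * (l * (x * v⁻¹) * l⁻¹) * c⁻¹) * (l * v * l⁻¹) = x * v⁻¹ * v := by
      rw [inv_mul_cancel_right]
      calc c * (l * (x * v⁻¹) * l⁻¹) * c⁻¹ * (l * v * l⁻¹)
          = c * (l * (x * v⁻¹) * l⁻¹) * (c⁻¹ * (l * v * l⁻¹)) := by group
        _ = c * (l * (x * v⁻¹) * l⁻¹) * ((l * v * l⁻¹) * c⁻¹) := by rw [hc'.inv_left.eq]
        _ = c * l * x * (c * l)⁻¹ := by group
        _ = x := e1
    have hmem : l * v * l⁻¹ * v⁻¹ ∈ L ⊓ C := by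
      refine ⟨L.mul_mem hlv (L.inv_mem hv.2), ?_⟩
      have e3 : l * v * l⁻¹ * v⁻¹ = (c * (l * (x * v⁻¹) * l⁻¹) * c⁻¹)⁻¹ * (x * v⁻¹) := by
        rw [eq_inv_mul_iff_mul_eq, ← mul_assoc, e2]
        group
      rw [e3]
      exact C.mul_mem (C.inv_mem (C.mul_mem (C.mul_mem hc (hcn _ hvc)) (C.inv_mem hc))) hvc
    have h1 : (⟨l, hl⟩ : L) * ⟨v, hv.2⟩ * (⟨l, hl⟩ : L)⁻¹ * (⟨v, hv.2⟩ : L)⁻¹ ∈ center L :=
      mem_center_iff.2 fun k => Subtype.ext (mem_centralizer_iff.1 hmem.2 k k.2)
    have h2 : q _ = 1 := (QuotientGroup.eq_one_iff _).2 h1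
    rw [map_mul, map_mul, map_mul, map_inv, map_inv, mul_inv_eq_one, mul_inv_eq_iff_eq_mul] at h2
    exact h2
  set Y := centralizer ({x} : Set X)
  obtain ⟨E, hEL, hEY, hEc, hEns, hEn, hkill, hEodd, hEcen⟩ : ∃ E : Subgroup X, E ≤ L ∧ E ≤ Y ∧
      Cfsg.IsComponent (E.subgroupOf Y) ∧ ¬ Group.IsSolvable E ∧ J ≤ normalizer (E : Set X) ∧
      (∃ A : Subgroup X, Group.IsSolvable A ∧ A ≤ normalizer (C : Set X) ∧
        ∀ a ∈ J, (∀ e ∈ E, Commute e a) → a ∈ A ⊔ C) ∧
      (∀ N : Subgroup X, N ≤ E → E ≤ normalizer (N : Set X) → ¬ 2 ∣ Nat.card N → N = ⊥) ∧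
      (∀ z ∈ E, (∀ e ∈ E, Commute z e) → z ∈ C) := by
    by_cases hvz : (⟨v, hv.2⟩ : L) ∈ center L
    · have hLY : L ≤ Y := fun l hl => mem_centralizer_singleton_iff.2
        ((hxl l hl).2 (congrArg Subtype.val (mem_center_iff.1 hvz ⟨l, hl⟩))).eq
      refine ⟨L, le_rfl, hLY,
        ⟨hL.1.subgroupOf, CfsgLib.Coprime.isQuasisimple_congr (subgroupOfEquivOfLe hLY).symm hL.2⟩,
        CfsgLib.Coprime.not_isSolvable_of_isComponent hL, (hJn hL).1,
        ⟨(center L).map L.subtype, ?_, (map_subtype_le _).trans (CfsgLib.Walter.Rank.le_normalizer_centralizer L),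
          fun a _ he => mem_sup_right (mem_centralizer_iff.2 fun l hl => (he l hl).eq)⟩,
        fun N hN hn hodd => ?_, fun z hz he => mem_centralizer_iff.2 fun l hl => ((he l hl).eq).symm⟩
      · haveI : Group.IsSolvable (center L) := CfsgLib.Coprime.isSolvable_of_isMulCommutative inferInstance
        exact Group.isSolvable_of_surjective (L.subtype.subgroupMap_surjective (center L))
      · refine le_bot_iff.1 (h.core ▸ CfsgLib.Coprime.le_pPrimeCore_of_isSubnormal Nat.prime_two ?_
          (Nat.coprime_comm.1 (Nat.prime_two.coprime_iff_not_dvd.2 hodd)))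
        exact IsSubnormal.trans hN (Normal.isSubnormal ((normal_subgroupOf_iff_le_normalizer hN).2 hn)) hL.1
    -- `v` is an involution of the simple quotient
    set t := q ⟨v, hv.2⟩ with ht
    have htne : t ≠ 1 := fun e => hvz ((QuotientGroup.eq_one_iff _).1 e)
    have ht2 : orderOf t = 2 := orderOf_eq_prime (by
      rw [pow_two, ht, ← map_mul, show (⟨v, hv.2⟩ : L) * ⟨v, hv.2⟩ = 1 from Subtype.ext (h.sq v hv.1),
        map_one]) htne
    haveI := hL.2.2
    have hns : ¬ Group.IsSolvable ↥(centralizer ({t} : Set (L ⧸ center L))) := fun hsol => by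
      haveI := hsol
      haveI : Group.IsSolvable (center L) := CfsgLib.Coprime.isSolvable_of_isMulCommutative inferInstance
      set U := (centralizer ({t} : Set (L ⧸ center L))).comap q with hU
      haveI : Group.IsSolvable U := Group.isSolvable_of_ker_le_range
        (inclusion (show center L ≤ U from fun z hz => mem_comap.2 (by
          rw [show q z = 1 from (QuotientGroup.eq_one_iff z).2 hz]; exact one_mem _)))
        (q.subgroupComap (centralizer ({t} : Set (L ⧸ center L)))) (fun z hz => by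
          refine ⟨⟨z.1, ?_⟩, rfl⟩
          exact (QuotientGroup.eq_one_iff _).1 (congrArg Subtype.val hz))
      haveI : Group.IsSolvable (U.map L.subtype) :=
        Group.isSolvable_of_surjective (L.subtype.subgroupMap_surjective U)
      refine hJL (CfsgLib.Walter.Rank.perfect_le_of_sup_solvable hJp this
        ((map_subtype_le _).trans (CfsgLib.Walter.Rank.le_normalizer_centralizer L)) fun a ha => ?_)
      obtain ⟨c, hc, l, hlt, rfl⟩ := hJv a ha
      exact mul_mem (mem_sup_right hc)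
        (mem_sup_left ⟨l, mem_comap.2 (mem_centralizer_singleton_iff.2 hlt.eq), rfl⟩)
    have hc : CfsgLib.Walter.CentForm (L ⧸ center L) :=
      (centForm_or_isSolvable hL.2.2 (hform L hL hm) hM.hasPair).resolve_right fun hsol => hns (hsol t ht2)
    have hel := fun Q : Sylow 2 (L ⧸ center L) => (CfsgLib.Walter.Rank.sylow_elementary hL.2.2 hc Q).2
    have hZ : center L = ⊥ := h.center_eq_bot hL hm fun z hz => by
      have h1 := hel (T.mapSurjective hqs) (q z) (by
        rw [Sylow.coe_mapSurjective]; exact mem_map_of_mem _ ((hT z).2 hz))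
      rw [← map_mul] at h1
      exact (QuotientGroup.eq_one_iff _).1 h1
    have hqi : Function.Injective q := (MonoidHom.ker_eq_bot_iff q).1 (by rw [hq, QuotientGroup.ker_mk', hZ])
    have hab : CfsgLib.Walter.AbTwo (L ⧸ center L) := fun Q a b => Subtype.ext <| by
      have h1 := hel Q _ (mul_mem a.2 b.2)
      rw [mul_eq_one_iff_eq_inv, mul_inv_rev, inv_eq_of_mul_eq_one_right (hel Q _ a.2),
        inv_eq_of_mul_eq_one_right (hel Q _ b.2)] at h1
      exact h1
    obtain ⟨-, E, hEs, hEna, -, ⟨-, -, hzE, -, hsup⟩, -⟩ :=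
      CfsgLib.Walter.Rank.centralizer_structure hL.2.2 hc hab ht2 hns
    haveI := hEs
    set E' := (E.comap q).map L.subtype with hE'
    have eE : E' ≃* E := (((E.comap q).equivMapOfInjective L.subtype L.subtype_injective).symm).trans
      (MulEquiv.ofBijective (q.subgroupComap E)
        ⟨fun a b e => Subtype.ext (hqi (congrArg Subtype.val e)), fun e => by
          obtain ⟨l, hl⟩ := hqs e.1
          exact ⟨⟨l, mem_comap.2 (hl ▸ e.2)⟩, Subtype.ext hl⟩⟩)
    have hE's : IsSimpleGroup E' := eE.isSimpleGroup_congr.2 hEs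
    haveI := hE's
    have hE'na : ¬ IsMulCommutative E' := fun hc => hEna (isMulCommutative_iff.2 fun a b =>
      eE.symm.injective (by rw [map_mul, map_mul]; exact isMulCommutative_iff.1 hc _ _))
    have hnormE : ∀ l : L, Commute (q l) t → ∃ z ∈ zpowers t, ∃ e ∈ E, z * e = q l := fun l hl =>
      CfsgLib.Coprime.mem_sup_exists (fun e he => centralizer_le_normalizer _
        (mem_centralizer_iff.2 fun z hz => hzE z hz e he)) (hsup.ge (mem_centralizer_singleton_iff.2 hl.eq))
    have hconj : ∀ l : L, Commute (q l) t → ∀ e ∈ E', (l : X) * e * (l : X)⁻¹ ∈ E' := by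
      rintro l hl _ ⟨e, he, rfl⟩
      obtain ⟨z, hz, e₀, he₀, hze⟩ := hnormE l hl
      refine ⟨l * e * l⁻¹, ?_, rfl⟩
      rw [SetLike.mem_coe, mem_comap, map_mul, map_mul, map_inv, ← hze,
        show z * e₀ * q e * (z * e₀)⁻¹ = z * (e₀ * q e * e₀⁻¹) * z⁻¹ by group,
        hzE z hz _ (mul_mem (mul_mem he₀ he) (inv_mem he₀)), mul_inv_cancel_right]
      exact mul_mem (mul_mem he₀ he) (inv_mem he₀)
    have hE'L : E' ≤ L := map_subtype_le _
    have hE'Y : E' ≤ Y := by
      rintro _ ⟨e, he, rfl⟩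
      refine mem_centralizer_singleton_iff.2 ((hxl e e.2).2 ?_).eq
      exact congrArg Subtype.val (hqi (by
        rw [map_mul, map_mul]; exact (hzE t (mem_zpowers t) (q e) he).symm) : (e * ⟨v, hv.2⟩ : L) = ⟨v, hv.2⟩ * e)
    have hE'ns : ¬ Group.IsSolvable E' := fun hsol =>
      hE'na (isMulCommutative_iff.2 (IsSimpleGroup.comm_iff_isSolvable.2 hsol))
    refine ⟨E', hE'L, hE'Y, ⟨?_, CfsgLib.Coprime.isQuasisimple_congr (subgroupOfEquivOfLe hE'Y).symm
        (CfsgLib.Walter.Rank.isQuasisimple_of_simple hE's hE'na)⟩, hE'ns, fun a ha => ?_,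
      ⟨((zpowers t).comap q).map L.subtype, ?_,
        (map_subtype_le _).trans (CfsgLib.Walter.Rank.le_normalizer_centralizer L), fun a ha he => ?_⟩,
      fun N hN hn hodd => ?_, fun z hz he => ?_⟩
    · refine IsSubnormal.trans (K := L.subgroupOf Y) (comap_mono hE'L)
        (Normal.isSubnormal ⟨fun n hn a => ?_⟩) hL.1.subgroupOf
      refine hconj ⟨_, a.2⟩ ?_ _ hn
      exact ((show Commute (⟨_, a.2⟩ : L) ⟨v, hv.2⟩ from Subtype.ext
        ((hxl _ a.2).1 (mem_centralizer_singleton_iff.1 a.1.2)).eq)).map q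
    · obtain ⟨c, hc, l, hl, rfl⟩ := hJv a ha
      refine mul_mem (centralizer_le_normalizer _ (mem_centralizer_iff.2 fun e he =>
        mem_centralizer_iff.1 hc e (hE'L he))) (mem_normalizer_fintype (hconj l hl))
    · haveI : Group.IsSolvable ((zpowers t).comap q) := by
        haveI : Group.IsSolvable (zpowers t) :=
          CfsgLib.Coprime.isSolvable_of_isMulCommutative inferInstance
        exact Group.isSolvable_of_isSolvable_injective (f := q.subgroupComap (zpowers t))
          fun a b e => Subtype.ext (hqi (congrArg Subtype.val e))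
      exact Group.isSolvable_of_surjective (L.subtype.subgroupMap_surjective _)
    · obtain ⟨c, hc, l, hl, rfl⟩ := hJv a ha
      refine mul_mem (mem_sup_right hc) (mem_sup_left ⟨l, ?_, rfl⟩)
      obtain ⟨z, hz, e₀, he₀, hze⟩ := hnormE l hl
      have he1 : (⟨e₀, he₀⟩ : E) ∈ center E := by
        refine mem_center_iff.2 fun e => Subtype.ext ?_
        obtain ⟨e', he'⟩ := hqs e.1
        have hmem : (e' : X) ∈ E' := ⟨e', mem_comap.2 (he' ▸ e.2), rfl⟩
        have h4 : Commute (e' : X) c := mem_centralizer_iff.1 hc e' e'.2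
        have h5 := h4.inv_right.mul_right (he _ hmem)
        rw [inv_mul_cancel_left] at h5
        have h6 : Commute e' l := Subtype.ext h5.eq
        have h7 := (h6.map q).eq
        rw [he', ← hze, ← mul_assoc, ← hzE z hz e e.2, mul_assoc, mul_assoc] at h7
        exact mul_left_cancel h7
      have hcb : center E = ⊥ := (inferInstance : (center E).Normal).eq_bot_or_eq_top.resolve_right fun e =>
        hEna (isMulCommutative_iff.2 fun a b => (mem_center_iff.1 (e.ge (mem_top a)) b).symm)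
      rw [hcb, Subgroup.mem_bot] at he1
      rw [show e₀ = 1 from congrArg Subtype.val he1, mul_one] at hze
      exact mem_comap.2 (hze ▸ hz)
    · rcases ((normal_subgroupOf_iff_le_normalizer hN).2 hn).eq_bot_or_eq_top with e | e
      · exact (Subgroup.eq_bot_iff_forall _).2 fun a ha =>
          congrArg Subtype.val ((Subgroup.eq_bot_iff_forall _).1 e ⟨a, hN ha⟩ (mem_subgroupOf.2 ha))
      · refine absurd (CfsgLib.FT.isSolvable_of_odd E' ?_) hE'ns
        rw [le_antisymm (Subgroup.subgroupOf_eq_top.1 e) hN]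
        exact Nat.odd_iff.2 (Nat.two_dvd_ne_zero.1 hodd)
    · have hcb : center E' = ⊥ := (inferInstance : (center E').Normal).eq_bot_or_eq_top.resolve_right fun e =>
        hE'na (isMulCommutative_iff.2 fun a b => (mem_center_iff.1 (e.ge (mem_top a)) b).symm)
      have h1 : (⟨z, hz⟩ : E') ∈ center E' := mem_center_iff.2 fun e => Subtype.ext (he e e.2).eq.symm
      rw [hcb, Subgroup.mem_bot] at h1
      rw [show z = 1 from congrArg Subtype.val h1]
      exact one_mem _
  -- `E ≤ J`
  have hEJ : E ≤ J := by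
    rcases CfsgLib.Coprime.component_le_or_commutator_eq_bot hEc hsn with h1 | h1
    · exact fun e he => mem_subgroupOf.1 (h1 (show (⟨e, hEY he⟩ : Y) ∈ E.subgroupOf Y from he))
    · obtain ⟨A, hA, hAC, hAk⟩ := hkill
      refine absurd (CfsgLib.Walter.Rank.perfect_le_of_sup_solvable hJp hA hAC fun a ha => ?_) hJL
      refine hAk a ha fun e he => ?_
      obtain ⟨d, rfl⟩ := ha
      exact congrArg Subtype.val (CfsgLib.Coprime.commutator_eq_bot_iff_forall.1 h1 ⟨e, hEY he⟩ he
        ⟨φ d, mem_centralizer_singleton_iff.2 (hcomm d).eq⟩ ⟨d, rfl⟩)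
  -- `J = E`
  have hJE : J ≤ E := by
    haveI : (E.comap φ).Normal := ⟨fun n hn a => by
      rw [mem_comap, map_mul, map_mul, map_inv]
      exact (mem_normalizer_iff.1 (hEn ⟨a, rfl⟩) _).1 hn⟩
    rcases hnorm (E.comap φ) inferInstance with h1 | h1
    · rintro _ ⟨a, rfl⟩
      exact mem_comap.1 (h1 ▸ mem_top a : a ∈ E.comap φ)
    · refine absurd ?_ hEns
      haveI := h1
      refine Group.isSolvable_of_surjective (f := φ.subgroupComap E) fun e => ?_
      obtain ⟨a, ha⟩ := hEJ e.2
      exact ⟨⟨a, mem_comap.2 (ha ▸ e.2)⟩, Subtype.ext ha⟩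
  refine ⟨L, hL, hm, hJE.trans hEL, fun N hN hodd => ?_, fun a ha => ?_⟩
  · refine hEodd _ ((map_le_range φ N).trans hJE) ?_ fun h2 => hodd (h2.trans (card_map_dvd _ φ))
    intro e he
    obtain ⟨a, rfl⟩ := hEJ he
    exact le_normalizer_map φ ⟨a, by rw [normalizer_eq_top N]; exact mem_top _, rfl⟩
  · refine hEcen _ (hJE ⟨a, rfl⟩) fun e he => ?_
    obtain ⟨b, rfl⟩ := hEJ he
    exact ha b

end Loc

end CfsgLib.Gold
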