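import Cfsg.Agent.Lib.Goldschmidt.Comp.Spec
import Cfsg.Agent.Lib.Goldschmidt.Kill
import Cfsg.Agent.Lib.Walter.Rank.Local
import Cfsg.Agent.Lib.Coprime.PConstrained

/-!
# The image of `A` in the centralizer of one of its involutions modulo the core
-/

set_option autoImplicit false
set_option linter.style.haveILetI false

namespace CfsgLib.Gold

open Subgroup
open CfsgLib.Walter.Rank (CQ proj pre mem_pre mem_pre_iff pre_le cq_core proj_eq_one_iff)

universe u

/-- The groups of the list have the properties of `Model`. -/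
def FormModelStmt : Prop :=
  ∀ (Y : Type u) [Group Y] [Finite Y], IsSimpleGroup Y → ¬ IsMulCommutative Y → Form Y →
    ∀ Q : Sylow 2 Y, Model Y (Q : Subgroup Y)

variable {G : Type u} [Group G] [Finite G] {S : Sylow 2 G} {A : Subgroup G}

namespace Setting

theorem mem_centralizer (h : Setting S A) {y a : G} (hy : y ∈ A) (ha : a ∈ A) :
    a ∈ centralizer ({y} : Set G) :=
  mem_centralizer_singleton_iff.2 (h.commute_mem ha hy)

theorem centralizer_ne_top (h : Setting S A) {y : G} (hy : orderOf y = 2) :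
    centralizer ({y} : Set G) ≠ ⊤ := by
  intro e
  have hc : y ∈ center G := mem_center_iff.2 fun g => mem_centralizer_singleton_iff.1 (e ▸ mem_top g)
  rw [h.center_eq_bot, Subgroup.mem_bot] at hc
  rw [hc, orderOf_one] at hy
  norm_num at hy

theorem card_cq_lt (h : Setting S A) {y : G} (hy : orderOf y = 2) : Nat.card (CQ y) < Nat.card G :=
  lt_of_le_of_lt (Nat.le_of_dvd Nat.card_pos (Subgroup.card_quotient_dvd_card _)) <| lt_of_le_of_ne
    (Nat.le_of_dvd Nat.card_pos (card_subgroup_dvd_card _))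
    fun e => h.centralizer_ne_top hy (Subgroup.card_eq_iff_eq_top _ |>.1 e)

theorem eq_one_of_proj (h : Setting S A) {y a : G} (ha : a ∈ A) (hc : a ∈ centralizer ({y} : Set G))
    (e : proj y ⟨a, hc⟩ = 1) : a = 1 :=
  CfsgLib.Walter.Rank.eq_one_of_proj (h.le_sylow ha) hc e

theorem mem_img_iff (h : Setting S A) {y : G} (hy : y ∈ A) {x : CQ y} :
    x ∈ img A y ↔ ∃ a, ∃ ha : a ∈ A, proj y ⟨a, h.mem_centralizer hy ha⟩ = x := by
  constructor
  · rintro ⟨⟨a, hc⟩, ha, rfl⟩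
    exact ⟨a, ha, rfl⟩
  · rintro ⟨a, ha, rfl⟩
    exact ⟨⟨a, h.mem_centralizer hy ha⟩, ha, rfl⟩

theorem proj_mem_img (h : Setting S A) {y a : G} (hy : y ∈ A) (ha : a ∈ A) :
    proj y ⟨a, h.mem_centralizer hy ha⟩ ∈ img A y :=
  (h.mem_img_iff hy).2 ⟨a, ha, rfl⟩

theorem proj_inj (h : Setting S A) {y a b : G} (hy : y ∈ A) (ha : a ∈ A) (hb : b ∈ A)
    (e : proj y ⟨a, h.mem_centralizer hy ha⟩ = proj y ⟨b, h.mem_centralizer hy hb⟩) : a = b := by
  refine mul_inv_eq_one.1 (h.eq_one_of_proj (mul_mem ha (inv_mem hb))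
    (mul_mem (h.mem_centralizer hy ha) (inv_mem (h.mem_centralizer hy hb))) ?_)
  rw [show (⟨a * b⁻¹, _⟩ : centralizer ({y} : Set G)) =
    ⟨a, h.mem_centralizer hy ha⟩ * ⟨b, h.mem_centralizer hy hb⟩⁻¹ from rfl, map_mul, map_inv, e, mul_inv_cancel]

/-- `img A y` is strongly closed in a Sylow subgroup. -/
theorem exists_sylow_img (h : Setting S A) {y : G} (hy : y ∈ A) :
    ∃ P : Sylow 2 (CQ y), Cfsg.IsStronglyClosed (img A y) (P : Subgroup (CQ y)) := by
  haveI := Fact.mk Nat.prime_two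
  set C := centralizer ({y} : Set G)
  have hAC : A ≤ C := fun a ha => h.mem_centralizer hy ha
  obtain ⟨T, hT⟩ := ((S.2.to_le h.le_sylow).comap_of_injective C.subtype C.subtype_injective :
    IsPGroup 2 (A.subgroupOf C)).exists_le_sylow
  refine ⟨T.mapSurjective (QuotientGroup.mk'_surjective _), ?_⟩
  rw [Sylow.coe_mapSurjective]
  refine Cfsg.Agent.S1250.result T (A.subgroupOf C) ⟨hT, fun a ha g hg => ?_⟩ _
  obtain ⟨g₀, hg₀⟩ := CfsgLib.Invol.exists_conj_le_sylow (T.2.map C.subtype) S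
  have hin : ∀ b ∈ A, g₀ * b * g₀⁻¹ ∈ A := fun b hb =>
    h.closed.2 b hb g₀ (hg₀ b ⟨⟨b, hAC hb⟩, hT (mem_subgroupOf.2 hb), rfl⟩)
  have hg₀n : g₀ ∈ normalizer (A : Set G) := mem_normalizer_fintype hin
  refine mem_subgroupOf.2 ((mem_normalizer_iff.1 hg₀n _).2 ?_)
  have h1 := hg₀ _ (mem_map_of_mem C.subtype hg)
  have e : g₀ * ((g : G) * (a : G) * (g : G)⁻¹) * g₀⁻¹ = (g₀ * g) * (a : G) * (g₀ * g)⁻¹ := by group
  show g₀ * ((g : G) * (a : G) * (g : G)⁻¹) * g₀⁻¹ ∈ A
  rw [e]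
  refine h.closed.2 (a : G) ha _ ?_
  rw [← e]
  exact h1

theorem exists_loc (h : Setting S A) (hF : FormModelStmt.{u}) {y : G} (hy : y ∈ A) (ho : orderOf y = 2) :
    ∃ P : Sylow 2 (CQ y), Loc P (img A y) := by
  obtain ⟨P, hP⟩ := h.exists_sylow_img hy
  refine ⟨P, cq_core y, fun b hb => ?_, hP, fun Y _ _ hs hn hle Q B hB hsq hsc => ?_⟩
  · obtain ⟨a, ha, rfl⟩ := (h.mem_img_iff hy).1 hb
    rw [← map_mul, show (⟨a, h.mem_centralizer hy ha⟩ * ⟨a, h.mem_centralizer hy ha⟩ :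
      centralizer ({y} : Set G)) = 1 from Subtype.ext (h.sq a ha), map_one]
  · refine hF Y hs hn (h.sections Y hs hn (lt_of_le_of_lt hle (h.card_cq_lt ho)) Q B hB
      (isMulCommutative_iff.2 fun a b => Subtype.ext ?_) hsc) Q
    have h1 := hsq _ (mul_mem a.2 b.2)
    rw [mul_eq_one_iff_eq_inv, mul_inv_rev, inv_eq_of_mul_eq_one_right (hsq _ a.2),
      inv_eq_of_mul_eq_one_right (hsq _ b.2)] at h1
    exact h1

/-- Elements normalizing `img A y` lift to elements normalizing `A`. -/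
theorem exists_lift (h : Setting S A) {y : G} (hy : y ∈ A) {x : CQ y}
    (hx : x ∈ normalizer (img A y : Set (CQ y))) :
    ∃ g : centralizer ({y} : Set G), (g : G) ∈ normalizer (A : Set G) ∧ proj y g = x := by
  haveI := Fact.mk Nat.prime_two
  obtain ⟨g, rfl⟩ := QuotientGroup.mk'_surjective _ x
  obtain ⟨o, ho, hn⟩ := CfsgLib.Coprime.exists_mem_normalizer_lift
    (O := Cfsg.pPrimeCore 2 ↥(centralizer ({y} : Set G))) (P := A.subgroupOf (centralizer ({y} : Set G)))
    (CfsgLib.Coprime.pPrimeCore_not_dvd Nat.prime_two)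
    ((S.2.to_le h.le_sylow).comap_of_injective _ (Subgroup.subtype_injective _)) (g := g) hx
  refine ⟨o * g, mem_normalizer_fintype fun a ha => ?_, ?_⟩
  · exact (mem_normalizer_iff.1 hn ⟨a, h.mem_centralizer hy ha⟩).1 ha
  · rw [map_mul, show proj y o = 1 from (QuotientGroup.eq_one_iff o).2 ho, one_mul]

/-- The Frattini argument in `C(y)`. -/
theorem centralizer_le_pre_sup (h : Setting S A) {y : G} (hy : y ∈ A) {N : Subgroup (CQ y)} (hN : N.Normal)
    (hle : img A y ≤ N) :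
    centralizer ({y} : Set G) ≤ pre y N ⊔ (centralizer ({y} : Set G) ⊓ normalizer (A : Set G)) := by
  rw [inf_comm]
  refine h.le_sup_normalizer (pre_le y N) ?_ fun a ha => ?_
  · intro g hg
    refine mem_normalizer_fintype fun x hx => ?_
    obtain ⟨hc, hxN⟩ := mem_pre.1 hx
    refine mem_pre.2 ⟨mul_mem (mul_mem hg hc) (inv_mem hg), ?_⟩
    have := hN.conj_mem _ hxN (proj y ⟨g, hg⟩)
    rwa [← map_inv, ← map_mul, ← map_mul] at this
  · exact (mem_pre_iff (h.mem_centralizer hy ha)).2 (hle (h.proj_mem_img hy ha))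

end Setting

end CfsgLib.Gold
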