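import Cfsg.Agent.Lib.Goldschmidt.Comp.Cover
import Cfsg.Agent.Lib.Goldschmidt.Consumers.Structure.Inputs

/-!
# The facts on the pairs and on the components
-/

set_option autoImplicit false
set_option linter.style.haveILetI false

namespace CfsgLib.Gold

open Subgroup
open CfsgLib.Walter.Rank (CQ proj pre mem_pre mem_pre_iff pre_le)

universe u

/-- The list is invariant under isomorphisms. -/
theorem form_congr {X Y : Type u} [Group X] [Group Y] [Finite X] [Finite Y] (e : X ≃* Y) (h : Form X) :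
    Form Y := by
  haveI := Fact.mk Nat.prime_two
  rcases h with (⟨F, i1, i2, hq, ⟨f⟩⟩ | ⟨h8, t, ht, F, i1, i2, hF, ⟨f⟩⟩) |
      ⟨F, i1, i2, hn, ⟨f⟩⟩ | ⟨F, i1, i2, m, hm, hF, ⟨f⟩⟩ | ⟨F, i1, i2, n, hn, hF, ⟨f⟩⟩
  · exact Or.inl (Or.inl ⟨F, i1, i2, hq, ⟨e.symm.trans f⟩⟩)
  · refine Or.inl (Or.inr ⟨fun Q => ?_, e t, by rw [MulEquiv.orderOf_eq, ht], F, i1, i2, hF, ⟨?_⟩⟩)
    · obtain ⟨h1, h2⟩ := h8 (Q.mapSurjective (f := e.symm.toMonoidHom) e.symm.surjective)
      change Nat.card ((Q : Subgroup Y).map e.symm.toMonoidHom) = 8 at h1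
      change ∀ x ∈ (Q : Subgroup Y).map e.symm.toMonoidHom, x * x = 1 at h2
      rw [card_map_of_injective (f := e.symm.toMonoidHom) e.symm.injective] at h1
      refine ⟨h1, fun x hx => e.symm.injective ?_⟩
      rw [map_mul, map_one]
      exact h2 _ ⟨x, hx, rfl⟩
    · refine MulEquiv.trans ?_ f
      exact
        { toFun := fun y => ⟨e.symm y, mem_centralizer_singleton_iff.2 (e.injective (by
            rw [map_mul, map_mul, MulEquiv.apply_symm_apply]; exact mem_centralizer_singleton_iff.1 y.2))⟩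
          invFun := fun x => ⟨e x, mem_centralizer_singleton_iff.2 (by
            rw [← map_mul, ← map_mul, mem_centralizer_singleton_iff.1 x.2])⟩
          left_inv := fun y => Subtype.ext (e.apply_symm_apply _)
          right_inv := fun x => Subtype.ext (e.symm_apply_apply _)
          map_mul' := fun a b => Subtype.ext (map_mul e.symm a.1 b.1) }
  · exact Or.inr (Or.inl ⟨F, i1, i2, hn, ⟨e.symm.trans f⟩⟩)
  · exact Or.inr (Or.inr (Or.inl ⟨F, i1, i2, m, hm, hF, ⟨e.symm.trans f⟩⟩))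
  · exact Or.inr (Or.inr (Or.inr ⟨F, i1, i2, n, hn, hF, ⟨e.symm.trans f⟩⟩))

variable {G : Type u} [Group G] [Finite G] {S : Sylow 2 G} {A : Subgroup G}

namespace Setting

/-- A met component has trivial centre. -/
theorem met_center_eq_bot (h : Setting S A) {y : G} (hy : y ∈ A) (ho : orderOf y = 2)
    {K : Subgroup (CQ y)} (hK : IsMet A y K) : center K = ⊥ := by
  haveI := Fact.mk Nat.prime_two
  have hF := Struct.formModelStmt.{u}
  have hinf := h.pair_inf_eq_bot hF (h.isPairAt_of_met hF hy ho hK)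
  obtain ⟨P, hL⟩ := h.exists_loc hF hy ho
  obtain ⟨T, hT, hM, hcv⟩ := hL.met_spec hK.1 hK.2
  have hZT : center K ≤ (T : Subgroup K) := fun z hz => (hT z).2 (hL.center_le_sylow hK.1 hz)
  rcases center_cases hK.1.2 (T.2.to_le hZT) (h.met_form hF hy ho hK) T with h1 | h1 | ⟨hE, -⟩
  · exact hL.center_eq_bot hK.1 hK.2 fun x hx => h1 x ((hT x).2 hx)
  · exact h1
  by_contra hZ
  obtain ⟨t, ht, x, hx, hxx, htx⟩ :=
    exists_noncommuting hK.1.2 (Loc.quotient_noncomm hK.1) T hZT hZ hM hE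
  obtain ⟨b, hb, hbz⟩ := hcv x hx hxx
  set q := QuotientGroup.mk' (center K)
  -- `[t, b]` lies in `B ⊓ Z`
  set c : K := t * b * t⁻¹ * b⁻¹ with hc
  have hcB : (c : CQ y) ∈ img A y := by
    push_cast [hc]
    exact mul_mem ((mem_normalizer_iff.1 (hL.le_normalizer_sylow ((hT t).1 ht)) _).1 hb) (inv_mem hb)
  have hbb : q b * q b = 1 := by
    rw [← map_mul, show b * b = 1 from Subtype.ext (hL.sq _ hb), map_one]
  have hcZ : c ∈ center K := by
    rw [← QuotientGroup.eq_one_iff]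
    show q c = 1
    have hcm := hM.central (q b) (mem_map_of_mem q ((hT _).2 (hL.closed.1 hb))) hbb (q t) (mem_map_of_mem q ht)
    rw [hc, map_mul, map_mul, map_mul, map_inv, map_inv, ← hcm, mul_inv_cancel_right, mul_inv_cancel]
  obtain ⟨a, ha, e⟩ := (h.mem_img_iff hy).1 hcB
  have ha1 : a = 1 := Subgroup.mem_bot.1 (hinf ▸ h.mem_inf_of_center hy ha hcZ e)
  have hc1 : c = 1 := by
    subst ha1
    refine Subtype.ext (e.symm.trans ?_)
    exact map_one (proj y)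
  rw [hc, mul_inv_eq_one, mul_inv_eq_iff_eq_mul] at hc1
  refine htx ?_
  rw [show x = b * (b⁻¹ * x) by rw [mul_inv_cancel_left], ← mul_assoc, hc1, mul_assoc, mul_assoc,
    mem_center_iff.1 hbz t]

theorem met_simple (h : Setting S A) {y : G} (hy : y ∈ A) (ho : orderOf y = 2)
    {K : Subgroup (CQ y)} (hK : IsMet A y K) : IsSimpleGroup K ∧ ¬ IsMulCommutative K ∧ Form K := by
  have hZ := h.met_center_eq_bot hy ho hK
  let e : K ≃* K ⧸ center K :=
    (QuotientGroup.quotientBot (G := K)).symm.trans (QuotientGroup.quotientMulEquivOfEq hZ.symm)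
  haveI := hK.1.2.2
  refine ⟨e.isSimpleGroup_congr.2 inferInstance, fun hc => Loc.quotient_noncomm hK.1 ?_,
    form_congr e.symm (h.met_form Struct.formModelStmt hy ho hK)⟩
  exact isMulCommutative_iff.2 fun a b => e.symm.injective (by
    rw [map_mul, map_mul]; exact isMulCommutative_iff.1 hc _ _)

/-- The facts on the pairs. -/
theorem pairFacts (h : Setting S A) : PairFacts A := by
  have hF := Struct.formModelStmt.{u}
  refine ⟨fun y R V hp => ?_, fun y R V hp => ?_, fun y R V hp => h.pair_inf_eq_bot hF hp,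
    fun y R V hp => ?_, fun y R V hp => ?_, fun y R V hp => ?_, fun y R V hp y' hy' ho' => ?_,
    fun y R V R' V' hp hp' => (h.pair_eq_or_le hF hp hp').imp_right fun h1 => h1.1,
    fun y R V hp n hn => isPairAt_map_conj hp hn⟩
  · obtain ⟨K, -, rfl, -⟩ := h.exists_met_of_isPairAt hp
    exact h.self_mem_RK hp.1.1 K
  · obtain ⟨K, hK, rfl, rfl⟩ := h.exists_met_of_isPairAt hp
    exact h.RK_sup_VK hF hp.1.1 hp.1.2.1 hK.1
  · obtain ⟨K, hK, rfl, rfl⟩ := h.exists_met_of_isPairAt hp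
    exact h.card_mul_card inf_le_right inf_le_right (h.RK_sup_VK hF hp.1.1 hp.1.2.1 hK.1)
      (h.pair_inf_eq_bot hF hp)
  · obtain ⟨K, hK, rfl, rfl⟩ := h.exists_met_of_isPairAt hp
    exact h.VK_four_le hF hp.1.1 hp.1.2.1 hK
  · obtain ⟨K, hK, rfl, rfl⟩ := h.exists_met_of_isPairAt hp
    have hinf := h.pair_inf_eq_bot hF hp
    obtain ⟨n, hnA, -, hnR, hnV, htr⟩ := h.exists_torus hF hp.1.1 hp.1.2.1 hK
    refine ⟨n, hnA, hnR, hnV, fun v hv hv1 w hw hw1 => ?_⟩
    have hR : ∀ {a}, a ∈ VK A y K → a ≠ 1 → a ∉ RK A y K := fun ha ha1 haR =>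
      ha1 (Subgroup.mem_bot.1 (hinf ▸ ⟨haR, ha⟩))
    obtain ⟨i, hi⟩ := htr v hv (hR hv hv1) w hw (hR hw hw1)
    exact ⟨i, mul_inv_eq_one.1 (Subgroup.mem_bot.1 (hinf ▸ hi))⟩
  · obtain ⟨R', V', hp', hVV, hRR, -⟩ := h.pair_transfer hF hp hy' ho'
    exact ⟨R', V', hp', hVV, hRR⟩

/-- The facts on the components. -/
theorem compFacts (h : Setting S A) : CompFacts A := by
  haveI := Fact.mk Nat.prime_two
  have hF := Struct.formModelStmt.{u}
  refine ⟨fun y hy ho K hK => ?_, fun y hy ho K hK => h.isPairAt_of_met hF hy ho hK, fun y R V hp => ?_,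
    fun y hy ho K hK => h.met_simple hy ho hK, fun y hy ho K hK => ?_, fun y hy ho K hK b hb => ?_,
    fun y hy ho K hK hab g k hg hgc => ?_, fun y hy ho => ?_,
    fun y hy _ N hN hle => h.centralizer_le_pre_sup hy hN hle⟩
  · obtain ⟨P, hL⟩ := h.exists_loc hF hy ho
    exact hL.normalizes hK
  · obtain ⟨K, hK, rfl, rfl⟩ := h.exists_met_of_isPairAt hp
    exact ⟨K, hK, rfl, rfl⟩
  · have hZ := h.met_center_eq_bot hy ho hK
    obtain ⟨P, hL⟩ := h.exists_loc hF hy ho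
    obtain ⟨T, hT, -, hcv⟩ := hL.met_spec hK.1 hK.2
    refine ⟨T, fun x => ⟨fun hx => ⟨(hT x).2 (hL.closed.1 hx), Subtype.ext (hL.sq _ hx)⟩, fun ⟨hx, hxx⟩ => ?_⟩⟩
    obtain ⟨b, hb, hbz⟩ := hcv x hx (by rw [hxx]; exact one_mem _)
    rw [hZ, Subgroup.mem_bot, inv_mul_eq_one] at hbz
    exact hbz ▸ hb
  · obtain ⟨P, hL⟩ := h.exists_loc hF hy ho
    obtain ⟨v, hv, hvc⟩ := hL.split hK hb
    exact ⟨v, hv, hvc⟩
  · obtain ⟨hs, hna, -⟩ := h.met_simple hy ho hK
    have hZ := h.met_center_eq_bot hy ho hK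
    obtain ⟨P, hL⟩ := h.exists_loc hF hy ho
    obtain ⟨T, hT, -, hcv⟩ := hL.met_spec hK.1 hK.2
    have hsq := (CfsgLib.Walter.Rank.sylow_elementary hs (CfsgLib.Walter.classified K hs hna hab) T).2
    have hfix : ∀ x ∈ (T : Subgroup K), g * (x : CQ y) * g⁻¹ = x := fun x hx => by
      obtain ⟨b, hb, hbz⟩ := hcv x hx (by rw [hsq x hx]; exact one_mem _)
      rw [hZ, Subgroup.mem_bot, inv_mul_eq_one] at hbz
      rw [← hbz, ← mem_centralizer_iff.1 hgc _ hb, mul_inv_cancel_right]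
    have hgK : g ∈ normalizer (K : Set (CQ y)) := by
      rw [← CfsgLib.Coprime.conjBy_eq_self_iff]
      by_contra hne
      obtain ⟨b, hb, hbz⟩ := hL.exists_noncentral hK.1 hK.2
      refine hbz (mem_center_iff.2 fun k => Subtype.ext ?_)
      have hmem : (b : CQ y) ∈ CfsgLib.Coprime.conjBy g K :=
        ⟨b, b.2, show g * (b : CQ y) * g⁻¹ = b from hfix b ((hT b).2 (hL.closed.1 hb))⟩
      exact (CfsgLib.Coprime.commutator_eq_bot_iff_forall.1 (CfsgLib.Coprime.components_commute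
        (CfsgLib.Coprime.isComponent_map_equiv (MulAut.conj g) hK.1) hK.1 hne) _ hmem k k.2).symm
    set gn : normalizer (K : Set (CQ y)) := ⟨g, hgK⟩
    obtain ⟨t, ht, hinn⟩ := Struct.inner_of_elementary hs hna T hsq (normalizerMonoidHom K gn) (k := k)
      (by rw [← map_pow, show gn ^ 2 ^ k = 1 from Subtype.ext hg, map_one])
      (fun x hx => Subtype.ext (hfix x hx))
    obtain ⟨b, hb, hbz⟩ := hcv t ht (by rw [hsq t ht]; exact one_mem _)
    rw [hZ, Subgroup.mem_bot, inv_mul_eq_one] at hbz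
    subst hbz
    refine ⟨b, ⟨hb, b.2⟩, mem_centralizer_iff.2 fun j hj => ?_⟩
    have h1 : g * ((b⁻¹ * ⟨j, hj⟩ * b : K) : CQ y) * g⁻¹ =
        ((b * (b⁻¹ * ⟨j, hj⟩ * b) * b⁻¹ : K) : CQ y) :=
      congrArg (fun z : K => (z : CQ y)) (hinn (b⁻¹ * (⟨j, hj⟩ : K) * b))
    rw [show b * (b⁻¹ * ⟨j, hj⟩ * b) * b⁻¹ = (⟨j, hj⟩ : K) by group] at h1
    calc j * (g * (b : CQ y)⁻¹) = g * ((b⁻¹ * ⟨j, hj⟩ * b : K) : CQ y) * g⁻¹ * (g * (b : CQ y)⁻¹) := by rw [h1]
      _ = g * (b : CQ y)⁻¹ * j := by push_cast; group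
  · obtain ⟨P, hL⟩ := h.exists_loc hF hy ho
    exact hL.le_sup

end Setting

theorem pairFactsStmt : PairFactsStmt.{u} := fun _ _ _ _ _ h => h.pairFacts

theorem compFactsStmt : CompFactsStmt.{u} := fun _ _ _ _ _ h => h.compFacts

end CfsgLib.Gold
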