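import Cfsg.Agent.Lib.Goldschmidt.Comp.Defs

/-!
# The properties of the groups of the list used for the components
-/

set_option autoImplicit false

namespace CfsgLib.Gold

open Subgroup

universe u

/-- What is used about a group of the list: the elements of order at most two of a Sylow `2`-subgroup `T` are
central in `T`, a torus is transitive on them, and an automorphism fixing them and acting trivially modulo
them is inner by `T`. -/
structure Model (Y : Type u) [Group Y] (T : Subgroup Y) : Prop where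
  central : ∀ x ∈ T, x * x = 1 → ∀ y ∈ T, x * y = y * x
  four : 4 ≤ Nat.card {x : Y // x ∈ T ∧ x * x = 1}
  torus : ∃ τ ∈ normalizer (T : Set Y), ∀ x ∈ T, x * x = 1 → x ≠ 1 → ∀ y ∈ T, y * y = 1 → y ≠ 1 →
    ∃ i : ℕ, τ ^ i * x * (τ ^ i)⁻¹ = y
  inner : ∀ α : MulAut Y, (∀ x, α (α x) = x) → (∀ x ∈ T, x * x = 1 → α x = x) →
    (∀ x ∈ T, x⁻¹ * α x ∈ T ∧ (x⁻¹ * α x) * (x⁻¹ * α x) = 1) → ∃ t ∈ T, ∀ x, α x = t * x * t⁻¹

/-- All simple groups of at most the order of `X` with an elementary strongly closed subgroup satisfy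
`Model`. -/
def ModelsOK (X : Type u) [Group X] : Prop :=
  ∀ (Y : Type u) [Group Y] [Finite Y], IsSimpleGroup Y → ¬ IsMulCommutative Y → Nat.card Y ≤ Nat.card X →
    ∀ (Q : Sylow 2 Y) (B : Subgroup Y), B ≠ ⊥ → (∀ b ∈ B, b * b = 1) →
      Cfsg.IsStronglyClosed B (Q : Subgroup Y) → Model Y (Q : Subgroup Y)

/-- A group without odd core, with an elementary subgroup strongly closed in a Sylow `2`-subgroup. -/
structure Loc {X : Type u} [Group X] (P : Sylow 2 X) (B : Subgroup X) : Prop where
  core : Cfsg.pPrimeCore 2 X = ⊥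
  sq : ∀ b ∈ B, b * b = 1
  closed : Cfsg.IsStronglyClosed B (P : Subgroup X)
  models : ModelsOK X

end CfsgLib.Gold
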