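import Cfsg.Agent.Lib.Goldschmidt.Comp.Transfer

/-!
# The pairs of the met components: conjugation, two pairs at a point, transfer
-/

set_option autoImplicit false
set_option linter.style.haveILetI false

namespace CfsgLib.Gold

open Subgroup
open CfsgLib.Walter.Rank (CQ proj pre mem_pre mem_pre_iff pre_le conjCQ map_pre)

universe u

variable {G : Type u} [Group G] [Finite G] {S : Sylow 2 G} {A : Subgroup G} {y : G} {R V R' V' : Subgroup G}

namespace Setting

/-- Conjugation by `N(A)` permutes the pairs. -/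
theorem isPairAt_map_conj (h : IsPairAt A y R V) {n : G} (hn : n ∈ normalizer (A : Set G)) :
    IsPairAt A (n * y * n⁻¹) (R.map (MulAut.conj n).toMonoidHom) (V.map (MulAut.conj n).toMonoidHom) := by
  obtain ⟨⟨hy, ho, K, hK, rfl, rfl⟩, hV, hR⟩ := h
  have hA : A.map (MulAut.conj n).toMonoidHom = A := CfsgLib.Coprime.conjBy_eq_self_iff.2 hn
  have hinj : Function.Injective (MulAut.conj n).toMonoidHom := (MulAut.conj n).injective
  refine ⟨⟨(Subgroup.mem_normalizer_iff.1 hn y).1 hy, ?_, K.map (conjCQ n y).toMonoidHom,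
    CfsgLib.Coprime.isComponent_map_equiv (conjCQ n y) hK, ?_, ?_⟩, fun e => hV ?_, fun e => hR ?_⟩
  · rw [show n * y * n⁻¹ = MulAut.conj n y from rfl, MulEquiv.orderOf_eq, ho]
  · rw [map_inf _ _ _ hinj, map_pre, hA]
  · rw [map_inf _ _ _ hinj, map_pre, hA]
    congr 2
    ext x
    simp only [Subgroup.mem_map, mem_centralizer_iff]
    constructor
    · rintro ⟨z, hz, rfl⟩ k ⟨k', hk', rfl⟩
      rw [← map_mul, ← map_mul, hz k' hk']
    · intro hx
      refine ⟨(conjCQ n y).symm x, fun k hk => (conjCQ n y).injective ?_, (conjCQ n y).apply_symm_apply x⟩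
      rw [map_mul, map_mul, (conjCQ n y).apply_symm_apply]
      exact hx _ ⟨k, hk, rfl⟩
  · exact map_injective hinj (e.trans (Subgroup.map_bot _).symm)
  · exact map_injective hinj (e.trans hA.symm)

variable (h : Setting S A) (hF : FormModelStmt.{u})
include h hF

/-- Two met components at one point: the trace of one lies in the trace of the centralizer of the other. -/
theorem VK_le_RK (hy : y ∈ A) {K L : Subgroup (CQ y)} (hK : Cfsg.IsComponent K) (hL : Cfsg.IsComponent L)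
    (hne : L ≠ K) : VK A y L ≤ RK A y K := fun v hv => by
  refine (h.mem_RK hy hv.2).2 (mem_centralizer_iff.2 fun k hk => ?_)
  exact (CfsgLib.Coprime.commutator_eq_bot_iff_forall.1 (CfsgLib.Coprime.components_commute hL hK hne) _
    ((h.mem_VK hy hv.2).1 hv) k hk).symm

theorem pair_eq_or_le (hp : IsPairAt A y R V) (hp' : IsPairAt A y R' V') :
    (R' = R ∧ V' = V) ∨ (V' ≤ R ∧ V ≤ R') := by
  have hy : y ∈ A := hp.1.1
  obtain ⟨K, hK, rfl, rfl⟩ := h.exists_met_of_isPairAt hp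
  obtain ⟨L, hL, rfl, rfl⟩ := h.exists_met_of_isPairAt hp'
  by_cases e : L = K
  · exact Or.inl (e ▸ ⟨rfl, rfl⟩)
  · exact Or.inr ⟨h.VK_le_RK hF hy hK.1 hL.1 e, h.VK_le_RK hF hy hL.1 hK.1 fun e' => e e'.symm⟩

theorem pair_transfer (hp : IsPairAt A y R V) {y' : G} (hy' : y' ∈ R) (ho' : orderOf y' = 2) :
    ∃ R' V', IsPairAt A y' R' V' ∧ V ≤ V' ∧ R' ≤ R ∧ R ⊓ V ≤ R' := by
  obtain ⟨K, hK, rfl, rfl⟩ := h.exists_met_of_isPairAt hp
  obtain ⟨L, hL, hVV, hRR, hZ⟩ := h.exists_transfer hF hp.1.1 hp.1.2.1 hK hy' ho'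
  exact ⟨_, _, h.isPairAt_of_met hF hy'.2 ho' hL, hVV, hRR, hZ⟩

end Setting

end CfsgLib.Gold
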