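import Cfsg.Agent.Lib.Goldschmidt.Comp.Loc
import Cfsg.Agent.Lib.Coprime.LBalance.Tools

/-!
# A component not centralized by the strongly closed subgroup

Its quotient by the centre is in the list, `B` covers the elements of order at most two of the Sylow subgroup
of that quotient, `B` acts on it by inner automorphisms, and `B` lies in the product of these components and
`O₂`.
-/

set_option autoImplicit false
set_option linter.style.haveILetI false

namespace CfsgLib.Gold

open Subgroup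
open scoped commutatorElement

universe u

variable {X : Type u} [Group X] [Finite X] {P : Sylow 2 X} {B : Subgroup X}

namespace Loc

theorem exists_noncentral (h : Loc P B) {K : Subgroup X} (hK : Cfsg.IsComponent K)
    (hm : ¬ B ≤ centralizer (K : Set X)) : ∃ b : K, (b : X) ∈ B ∧ b ∉ center K := by
  by_contra hc
  push Not at hc
  exact hm (h.centralizes hK hc)

theorem quotient_noncomm {K : Subgroup X} (hK : Cfsg.IsComponent K) : ¬ IsMulCommutative (K ⧸ center K) :=
  fun hc => by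
    haveI : Group.IsSolvable (center K) := CfsgLib.Coprime.isSolvable_of_isMulCommutative inferInstance
    haveI : Group.IsSolvable (K ⧸ center K) :=
      Group.isSolvable_of_comm fun a b => isMulCommutative_iff.1 hc a b
    haveI : Group.IsSolvable K :=
      Group.isSolvable_of_ker_le_range (center K).subtype (QuotientGroup.mk' (center K)) (by simp)
    exact CfsgLib.Coprime.not_isSolvable_of_isComponent hK inferInstance

/-- The image of `B` in the simple quotient of a component which it does not centralize. -/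
theorem met_closed (h : Loc P B) {K : Subgroup X} (hK : Cfsg.IsComponent K)
    (hm : ¬ B ≤ centralizer (K : Set X)) :
    ∃ T : Sylow 2 K, (∀ x : K, x ∈ (T : Subgroup K) ↔ (x : X) ∈ (P : Subgroup X)) ∧
      (B.subgroupOf K).map (QuotientGroup.mk' (center K)) ≠ ⊥ ∧
      (∀ b ∈ (B.subgroupOf K).map (QuotientGroup.mk' (center K)), b * b = 1) ∧
      Cfsg.IsStronglyClosed ((B.subgroupOf K).map (QuotientGroup.mk' (center K)))
        (((T.mapSurjective (QuotientGroup.mk'_surjective (center K))) : Sylow 2 (K ⧸ center K)) :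
          Subgroup (K ⧸ center K)) := by
  haveI := Fact.mk Nat.prime_two
  obtain ⟨T, hT, -⟩ := h.sylowK hK
  have hsc : Cfsg.IsStronglyClosed (B.subgroupOf K) (T : Subgroup K) :=
    ⟨fun b hb => (hT b).2 (h.closed.1 hb), fun b hb g hg => h.conj_mem (g := (g : X)) hb ((hT _).1 hg)⟩
  refine ⟨T, hT, fun e => ?_, ?_, ?_⟩
  · obtain ⟨b, hb, hbc⟩ := h.exists_noncentral hK hm
    exact hbc ((QuotientGroup.eq_one_iff _).1 ((Subgroup.eq_bot_iff_forall _).1 e _
      (mem_map_of_mem _ (mem_subgroupOf.2 hb))))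
  · rintro _ ⟨b, hb, rfl⟩
    rw [← map_mul, show b * b = 1 from Subtype.ext (h.sq _ hb), map_one]
  · rw [Sylow.coe_mapSurjective]
    exact Cfsg.Agent.S1250.result T (B.subgroupOf K) hsc (center K)

/-- The simple quotient of a component not centralized by `B`. -/
theorem met_spec (h : Loc P B) {K : Subgroup X} (hK : Cfsg.IsComponent K)
    (hm : ¬ B ≤ centralizer (K : Set X)) :
    ∃ T : Sylow 2 K, (∀ x : K, x ∈ (T : Subgroup K) ↔ (x : X) ∈ (P : Subgroup X)) ∧
      Model (K ⧸ center K) ((T : Subgroup K).map (QuotientGroup.mk' (center K))) ∧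
      ∀ x ∈ (T : Subgroup K), x * x ∈ center K → ∃ b : K, (b : X) ∈ B ∧ b⁻¹ * x ∈ center K := by
  haveI := Fact.mk Nat.prime_two
  obtain ⟨T, hT, hBne, hBsq, hscq⟩ := h.met_closed hK hm
  set q := QuotientGroup.mk' (center K) with hq
  have hqs : Function.Surjective q := QuotientGroup.mk'_surjective _
  set Bq := (B.subgroupOf K).map q
  haveI := hK.2.2
  have hle : Nat.card (K ⧸ center K) ≤ Nat.card X :=
    (Nat.le_of_dvd Nat.card_pos (card_quotient_dvd_card _)).trans
      (Nat.le_of_dvd Nat.card_pos (card_subgroup_dvd_card K))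
  have hM := h.models (K ⧸ center K) inferInstance (quotient_noncomm hK) hle (T.mapSurjective hqs) Bq hBne
    hBsq hscq
  rw [Sylow.coe_mapSurjective] at hM hscq
  refine ⟨T, hT, hM, fun x hx hxx => ?_⟩
  suffices hmem : q x ∈ Bq by
    obtain ⟨b, hb, e⟩ := hmem
    exact ⟨b, hb, QuotientGroup.eq.1 e⟩
  by_cases hx1 : q x = 1
  · rw [hx1]; exact one_mem _
  obtain ⟨b, hb, hb1⟩ := Bq.bot_or_exists_ne_one.resolve_left hBne
  obtain ⟨τ, hτ, htr⟩ := hM.torus
  have hbT : b ∈ (T : Subgroup K).map q := hscq.1 hb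
  obtain ⟨i, hi⟩ := htr b hbT (hBsq b hb) hb1 (q x) (mem_map_of_mem q hx)
    (by rw [← map_mul]; exact (QuotientGroup.eq_one_iff _).2 hxx) hx1
  have h1 := hscq.2 b hb (τ ^ i) (by
    rw [hi]
    exact mem_map_of_mem q hx)
  rwa [hi] at h1

/-- `B` induces inner automorphisms on every component. -/
theorem split (h : Loc P B) {K : Subgroup X} (hK : Cfsg.IsComponent K) {b : X} (hb : b ∈ B) :
    ∃ v ∈ B ⊓ K, b * v⁻¹ ∈ centralizer (K : Set X) := by
  haveI := Fact.mk Nat.prime_two
  by_cases hm : B ≤ centralizer (K : Set X)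
  · exact ⟨1, one_mem _, by simpa using hm hb⟩
  obtain ⟨T, hT, hM, hcov⟩ := h.met_spec hK hm
  set q := QuotientGroup.mk' (center K) with hq
  have hqs : Function.Surjective q := QuotientGroup.mk'_surjective _
  set α₀ : MulAut K := normalizerMonoidHom K ⟨b, h.normalizes hK hb⟩
  have hα₀ : ∀ x : K, (α₀ x : X) = b * x * b⁻¹ := fun x => rfl
  set α : MulAut (K ⧸ center K) :=
    QuotientGroup.congr _ _ α₀ (CfsgLib.Coprime.map_center_equiv α₀)
  have hα : ∀ x : K, α (q x) = q (α₀ x) := fun x => rfl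
  have hsq' : ∀ y, α (α y) = y := by
    intro y
    obtain ⟨x, rfl⟩ := hqs y
    rw [hα, hα]
    congr 1
    refine Subtype.ext ?_
    rw [hα₀, hα₀]
    calc b * (b * (x : X) * b⁻¹) * b⁻¹ = (b * b) * (x : X) * (b * b)⁻¹ := by group
      _ = (x : X) := by rw [h.sq b hb, one_mul, inv_one, mul_one]
  have hfix : ∀ y ∈ (T : Subgroup K).map q, y * y = 1 → α y = y := by
    rintro _ ⟨x, hx, rfl⟩ hy
    rw [← map_mul] at hy
    obtain ⟨w, hw, hwz⟩ := hcov x hx ((QuotientGroup.eq_one_iff _).1 hy)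
    have e : q x = q w := (QuotientGroup.eq.2 hwz).symm
    rw [e, hα]
    congr 1
    refine Subtype.ext ?_
    rw [hα₀, h.comm hb hw, mul_inv_cancel_right]
  have hmod : ∀ y ∈ (T : Subgroup K).map q, y⁻¹ * α y ∈ (T : Subgroup K).map q ∧
      (y⁻¹ * α y) * (y⁻¹ * α y) = 1 := by
    rintro _ ⟨x, hx, rfl⟩
    have hxP := (hT x).1 hx
    have h1 : ((x⁻¹ * α₀ x : K) : X) ∈ B := by
      have h2 : (x : X)⁻¹ * b * (x : X) ∈ B := by
        have := (mem_normalizer_iff.1 (h.le_normalizer_sylow (inv_mem hxP)) b).1 hb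
        rwa [inv_inv] at this
      have h3 := mul_mem h2 (inv_mem hb)
      push_cast
      rw [hα₀]
      simpa only [mul_assoc] using h3
    rw [hα, ← map_inv, ← map_mul, ← map_mul]
    refine ⟨mem_map_of_mem q ((hT _).2 (h.closed.1 h1)), ?_⟩
    rw [show (x⁻¹ * α₀ x) * (x⁻¹ * α₀ x) = 1 from Subtype.ext (h.sq _ h1), map_one]
  obtain ⟨_, ⟨t, ht, rfl⟩, hinn⟩ := hM.inner α hsq' hfix hmod
  set c : X := (t : X)⁻¹ * b with hc
  have hcK : c ∈ centralizer (K : Set X) := by
    have hcN : c ∈ normalizer (K : Set X) :=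
      mul_mem (le_normalizer (inv_mem t.2)) (h.normalizes hK hb)
    have h1 : ⁅zpowers c, K⁆ ≤ (center K).map K.subtype := by
      refine commutator_le.2 fun d hd k hk => ?_
      obtain ⟨i, rfl⟩ := mem_zpowers_iff.1 hd
      let S : Subgroup (normalizer (K : Set X)) :=
        { carrier := {g | ∀ k : K, q (normalizerMonoidHom K g k) = q k}
          one_mem' := fun k => by rw [map_one]; rfl
          mul_mem' := fun {g g'} hg hg' k => by rw [map_mul]; exact (hg _).trans (hg' k)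
          inv_mem' := fun {g} hg k => by
            have := hg (normalizerMonoidHom K g⁻¹ k)
            rw [← MulAut.mul_apply, ← map_mul, mul_inv_cancel, map_one] at this
            exact this.symm }
      have hcS : (⟨c, hcN⟩ : normalizer (K : Set X)) ∈ S := fun k => by
        have e1 : normalizerMonoidHom K ⟨c, hcN⟩ k = t⁻¹ * α₀ k * t := Subtype.ext (by
          show c * (k : X) * c⁻¹ = _
          push_cast
          rw [hα₀, hc]
          group)
        rw [e1, map_mul, map_mul, map_inv, ← hα, hinn (q k)]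
        group
      have h2 := zpow_mem hcS i ⟨k, hk⟩
      have h3 : ((normalizerMonoidHom K ((⟨c, hcN⟩ : normalizer (K : Set X)) ^ i) ⟨k, hk⟩) * (⟨k, hk⟩ : K)⁻¹)
          ∈ center K := by
        rw [← QuotientGroup.eq_one_iff]
        show q _ = 1
        rw [map_mul, map_inv, h2, mul_inv_cancel]
      refine ⟨_, h3, ?_⟩
      show ((⟨c, hcN⟩ : normalizer (K : Set X)) ^ i : normalizer (K : Set X)).1 * k *
        (((⟨c, hcN⟩ : normalizer (K : Set X)) ^ i : normalizer (K : Set X)).1)⁻¹ * k⁻¹ = _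
      rw [commutatorElement_def, SubgroupClass.coe_zpow]
    have h4 : ⁅zpowers c, K⁆ = ⊥ := by
      refine CfsgLib.Coprime.commutator_eq_bot_of_perfect (CfsgLib.Coprime.commutator_self_of_isComponent hK) ?_
      refine le_bot_iff.1 ((commutator_mono h1 le_rfl).trans (commutator_le.2 ?_))
      rintro _ ⟨z, hz, rfl⟩ k hk
      exact Subgroup.mem_bot.2 (commutatorElement_eq_one_iff_mul_comm.2
        (congrArg Subtype.val (mem_center_iff.1 hz ⟨k, hk⟩)).symm)
    exact (commutator_eq_bot_iff_le_centralizer.1 h4) (mem_zpowers c)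
  have hbc : b = (t : X) * c := by rw [hc, mul_inv_cancel_left]
  have htc : (t : X) * c = c * (t : X) := mem_centralizer_iff.1 hcK t t.2
  have htt : t * t ∈ center K := by
    refine mem_center_iff.2 fun k => Subtype.ext ?_
    have h1 : ((t : X) * t) = (c * c)⁻¹ := by
      refine eq_inv_of_mul_eq_one_left ?_
      rw [show (t : X) * t * (c * c) = (t : X) * ((t : X) * c) * c by group, htc,
        show (t : X) * (c * (t : X)) * c = ((t : X) * c) * ((t : X) * c) by group, ← hbc, h.sq b hb]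
    show (k : X) * ((t : X) * t) = (t : X) * t * k
    rw [h1]
    exact mem_centralizer_iff.1 (inv_mem (mul_mem hcK hcK)) k k.2
  obtain ⟨v, hv, hvz⟩ := hcov t ht htt
  refine ⟨v, ⟨hv, v.2⟩, ?_⟩
  have e : b * (v : X)⁻¹ = ((v⁻¹ * t : K) : X) * (c * ((v : X) * (v : X)⁻¹)) := by
    rw [mul_inv_cancel, mul_one]
    push_cast
    rw [show (v : X)⁻¹ * (t : X) * c = (v : X)⁻¹ * ((t : X) * c) by group, ← hbc,
      h.comm hb (inv_mem hv)]
  rw [e, mul_inv_cancel, mul_one]
  refine mul_mem (mem_centralizer_iff.2 fun k hk => ?_) hcK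
  exact congrArg Subtype.val (mem_center_iff.1 hvz ⟨k, hk⟩)

/-- Being centralized by `B` is invariant under conjugation. -/
theorem centralizes_conj (h : Loc P B) {K : Subgroup X} (hK : Cfsg.IsComponent K)
    (hm : B ≤ centralizer (K : Set X)) (g : X) :
    B ≤ centralizer ((CfsgLib.Coprime.conjBy g K : Subgroup X) : Set X) := by
  haveI := Fact.mk Nat.prime_two
  by_contra hn
  have hK' : Cfsg.IsComponent (CfsgLib.Coprime.conjBy g K) :=
    CfsgLib.Coprime.isComponent_map_equiv (MulAut.conj g) hK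
  obtain ⟨v, hv, hvc⟩ := h.exists_noncentral hK' hn
  obtain ⟨T, hT, -⟩ := h.sylowK hK
  have hwK : g⁻¹ * (v : X) * g ∈ K := CfsgLib.Coprime.mem_conjBy.1 v.2
  set w : K := ⟨g⁻¹ * (v : X) * g, hwK⟩
  have hw2 : w ^ 2 ^ 1 = 1 := Subtype.ext (by
    show (g⁻¹ * (v : X) * g) ^ 2 ^ 1 = 1
    rw [pow_one, pow_two, show g⁻¹ * (v : X) * g * (g⁻¹ * (v : X) * g) = g⁻¹ * ((v : X) * v) * g by group,
      h.sq _ hv]
    group)
  obtain ⟨k, hk⟩ := CfsgLib.Invol.exists_conj_le_sylow
    (CfsgLib.Coprime.isPGroup_zpowers (p := 2) hw2) T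
  have hkw := (hT _).1 (hk w (mem_zpowers w))
  have hconj : ((k * w * k⁻¹ : K) : X) = ((k : X) * g⁻¹) * (v : X) * ((k : X) * g⁻¹)⁻¹ := by
    show (k : X) * (g⁻¹ * (v : X) * g) * (k : X)⁻¹ = _
    group
  have hB : ((k * w * k⁻¹ : K) : X) ∈ B := hconj ▸ h.conj_mem hv (hconj ▸ hkw)
  have hcen : ∀ j ∈ K, j * ((k * w * k⁻¹ : K) : X) = ((k * w * k⁻¹ : K) : X) * j := fun j hj =>
    mem_centralizer_iff.1 (hm hB) j hj
  refine hvc (mem_center_iff.2 fun x => Subtype.ext ?_)
  show (x : X) * v = v * x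
  have hx : g⁻¹ * (x : X) * g ∈ K := CfsgLib.Coprime.mem_conjBy.1 x.2
  have hwc : ∀ j : K, j * w = w * j := fun j => by
    have h1 : k * j * k⁻¹ * (k * w * k⁻¹) = k * w * k⁻¹ * (k * j * k⁻¹) :=
      Subtype.ext (hcen _ (k * j * k⁻¹).2)
    have h2 : k * (j * w) * k⁻¹ = k * (w * j) * k⁻¹ := by
      calc k * (j * w) * k⁻¹ = k * j * k⁻¹ * (k * w * k⁻¹) := by group
        _ = k * w * k⁻¹ * (k * j * k⁻¹) := h1
        _ = k * (w * j) * k⁻¹ := by group
    exact mul_left_cancel (mul_right_cancel h2)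
  have h3 : g⁻¹ * (x : X) * g * (g⁻¹ * (v : X) * g) = g⁻¹ * (v : X) * g * (g⁻¹ * (x : X) * g) :=
    congrArg Subtype.val (hwc ⟨_, hx⟩)
  calc (x : X) * v = g * (g⁻¹ * (x : X) * g * (g⁻¹ * (v : X) * g)) * g⁻¹ := by group
    _ = g * (g⁻¹ * (v : X) * g * (g⁻¹ * (x : X) * g)) * g⁻¹ := by rw [h3]
    _ = v * x := by group

/-- The normal closure of `B` centralizes a component centralized by `B`. -/
theorem normalClosure_le_centralizer (h : Loc P B) {K : Subgroup X} (hK : Cfsg.IsComponent K)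
    (hm : B ≤ centralizer (K : Set X)) : normalClosure (B : Set X) ≤ centralizer (K : Set X) := by
  refine closure_le _ |>.2 fun x hx => ?_
  obtain ⟨b, hb, hc⟩ := Group.mem_conjugatesOfSet_iff.1 hx
  obtain ⟨g, rfl⟩ := isConj_iff.1 hc
  refine mem_centralizer_iff.2 fun j hj => ?_
  have h1 := mem_centralizer_iff.1 (h.centralizes_conj hK hm g⁻¹ hb) (g⁻¹ * j * g)
    (CfsgLib.Coprime.mem_conjBy.2 (by
      rw [show g⁻¹⁻¹ * (g⁻¹ * j * g) * g⁻¹ = j by group]
      exact hj))
  calc j * (g * b * g⁻¹) = g * ((g⁻¹ * j * g) * b) * g⁻¹ := by group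
    _ = g * (b * (g⁻¹ * j * g)) * g⁻¹ := by rw [h1]
    _ = g * b * g⁻¹ * j := by group

theorem inf_pCore_normal (h : Loc P B) : (B ⊓ Cfsg.pCore 2 X).Normal := by
  haveI := Fact.mk Nat.prime_two
  haveI := CfsgLib.Coprime.pCore_normal' (G := X) 2
  refine ⟨fun b hb g => ⟨h.conj_mem hb.1 ?_, Subgroup.Normal.conj_mem inferInstance b hb.2 g⟩⟩
  exact CfsgLib.Coprime.pCore_le_sylow P (Subgroup.Normal.conj_mem inferInstance b hb.2 g)

/-- `B` lies in the components it does not centralize and `O₂`. -/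
theorem le_sup (h : Loc P B) :
    B ≤ sSup {K : Subgroup X | Cfsg.IsComponent K ∧ ¬ B ≤ centralizer (K : Set X)} ⊔ Cfsg.pCore 2 X := by
  classical
  haveI := Fact.mk Nat.prime_two
  haveI := CfsgLib.Coprime.pCore_normal' (G := X) 2
  haveI := CfsgLib.Coprime.layer_normal (G := X)
  haveI := h.inf_pCore_normal
  set M := sSup {K : Subgroup X | Cfsg.IsComponent K ∧ ¬ B ≤ centralizer (K : Set X)}
  intro b hb
  have hfin := Set.toFinite {K : Subgroup X | Cfsg.IsComponent K}
  have key : ∀ s : Finset (Subgroup X), (∀ K ∈ s, Cfsg.IsComponent K) →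
      ∃ e ∈ B ⊓ M, (∀ L, Cfsg.IsComponent L → L ∉ s → e ∈ centralizer (L : Set X)) ∧
        ∀ K ∈ s, b * e⁻¹ ∈ centralizer (K : Set X) := by
    intro s
    induction s using Finset.induction_on with
    | empty => exact fun _ => ⟨1, one_mem _, fun _ _ _ => one_mem _, fun K hK => absurd hK (Finset.notMem_empty K)⟩
    | insert K s hKs ih =>
      intro hs
      obtain ⟨e, he, hoth, hc⟩ := ih fun L hL => hs L (Finset.mem_insert_of_mem hL)
      have hK := hs K (Finset.mem_insert_self K s)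
      by_cases hm : B ≤ centralizer (K : Set X)
      · refine ⟨e, he, fun L hL hn => hoth L hL fun hh => hn (Finset.mem_insert_of_mem hh), fun L hL => ?_⟩
        rcases Finset.mem_insert.1 hL with rfl | hL'
        · exact hm (mul_mem hb (inv_mem he.1))
        · exact hc L hL'
      obtain ⟨v, hv, hvc⟩ := h.split hK (mul_mem hb (inv_mem he.1))
      have hvL : ∀ L, Cfsg.IsComponent L → L ≠ K → v ∈ centralizer (L : Set X) := fun L hL hne =>
        mem_centralizer_iff.2 fun l hl => (CfsgLib.Coprime.commutator_eq_bot_iff_forall.1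
          (CfsgLib.Coprime.components_commute hK hL fun e' => hne e'.symm) v hv.2 l hl).symm
      refine ⟨v * e, ⟨mul_mem hv.1 he.1, mul_mem
        (le_sSup (show K ∈ {K : Subgroup X | Cfsg.IsComponent K ∧ ¬ B ≤ centralizer (K : Set X)} from ⟨hK, hm⟩) hv.2)
          he.2⟩, fun L hL hn => mul_mem (hvL L hL fun e' => hn (e' ▸ Finset.mem_insert_self K s))
            (hoth L hL fun hh => hn (Finset.mem_insert_of_mem hh)), fun L hL => ?_⟩
      rw [mul_inv_rev, ← mul_assoc]
      rcases Finset.mem_insert.1 hL with rfl | hL'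
      · exact hvc
      · exact mul_mem (hc L hL') (inv_mem (hvL L (hs L (Finset.mem_insert_of_mem hL'))
          fun e' => hKs (e' ▸ hL')))
  obtain ⟨e, he, -, hc⟩ := key hfin.toFinset fun K hK => hfin.mem_toFinset.1 hK
  set c := b * e⁻¹ with hcdef
  have hcB : c ∈ B := mul_mem hb (inv_mem he.1)
  have hcE : c ∈ centralizer (Cfsg.layer X : Set X) := by
    rw [← zpowers_le, le_centralizer_iff]
    refine sSup_le fun K hK => le_centralizer_iff.1 ?_
    rw [zpowers_le]
    exact hc K (hfin.mem_toFinset.2 hK)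
  -- the stabilizer of the chain `1 ≤ B ⊓ O₂ ≤ O₂` in `C(E)`
  set Q := Cfsg.pCore 2 X
  set W := B ⊓ Q
  let D : Subgroup X :=
    { carrier := {g | g ∈ centralizer (Cfsg.layer X : Set X) ∧ g ∈ centralizer (W : Set X) ∧
        ∀ x ∈ Q, g * x * g⁻¹ * x⁻¹ ∈ W}
      one_mem' := ⟨one_mem _, one_mem _, fun x _ => by simp [one_mem]⟩
      mul_mem' := by
        rintro g g' ⟨h1, h2, h3⟩ ⟨h1', h2', h3'⟩
        refine ⟨mul_mem h1 h1', mul_mem h2 h2', fun x hx => ?_⟩
        have e1 : g * g' * x * (g * g')⁻¹ * x⁻¹ = (g * (g' * x * g'⁻¹ * x⁻¹) * g⁻¹) * (g * x * g⁻¹ * x⁻¹) := by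
          group
        rw [e1]
        exact mul_mem (Subgroup.Normal.conj_mem inferInstance _ (h3' x hx) g) (h3 x hx)
      inv_mem' := by
        rintro g ⟨h1, h2, h3⟩
        refine ⟨inv_mem h1, inv_mem h2, fun x hx => ?_⟩
        have e1 : g⁻¹ * x * g⁻¹⁻¹ * x⁻¹ = g⁻¹ * (g * x * g⁻¹ * x⁻¹)⁻¹ * g := by group
        rw [e1]
        have := Subgroup.Normal.conj_mem (inferInstance : W.Normal) _ (inv_mem (h3 x hx)) g⁻¹
        rwa [inv_inv] at this }
  haveI : D.Normal := ⟨fun g hg n => by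
    obtain ⟨h1, h2, h3⟩ := hg
    refine ⟨?_, ?_, fun x hx => ?_⟩
    · refine mem_centralizer_iff.2 fun y hy => ?_
      have h4 := mem_centralizer_iff.1 h1 (n⁻¹ * y * n)
        (by have := Subgroup.Normal.conj_mem (inferInstance : (Cfsg.layer X).Normal) y hy n⁻¹; rwa [inv_inv] at this)
      calc y * (n * g * n⁻¹) = n * ((n⁻¹ * y * n) * g) * n⁻¹ := by group
        _ = n * (g * (n⁻¹ * y * n)) * n⁻¹ := by rw [h4]
        _ = n * g * n⁻¹ * y := by group
    · refine mem_centralizer_iff.2 fun y hy => ?_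
      have h4 := mem_centralizer_iff.1 h2 (n⁻¹ * y * n)
        (by have := Subgroup.Normal.conj_mem (inferInstance : W.Normal) y hy n⁻¹; rwa [inv_inv] at this)
      calc y * (n * g * n⁻¹) = n * ((n⁻¹ * y * n) * g) * n⁻¹ := by group
        _ = n * (g * (n⁻¹ * y * n)) * n⁻¹ := by rw [h4]
        _ = n * g * n⁻¹ * y := by group
    · have h4 := h3 (n⁻¹ * x * n)
        (by have := Subgroup.Normal.conj_mem (inferInstance : Q.Normal) x hx n⁻¹; rwa [inv_inv] at this)
      have e1 : n * g * n⁻¹ * x * (n * g * n⁻¹)⁻¹ * x⁻¹ =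
          n * (g * (n⁻¹ * x * n) * g⁻¹ * (n⁻¹ * x * n)⁻¹) * n⁻¹ := by group
      rw [e1]
      exact Subgroup.Normal.conj_mem inferInstance _ h4 n⟩
  have hcD : c ∈ D := by
    refine ⟨hcE, mem_centralizer_iff.2 fun w hw => h.comm hw.1 hcB, fun x hx => ?_⟩
    have hxP := CfsgLib.Coprime.pCore_le_sylow P hx
    refine ⟨?_, ?_⟩
    · have h1 : x * c⁻¹ * x⁻¹ ∈ B :=
        (mem_normalizer_iff.1 (h.le_normalizer_sylow hxP) c⁻¹).1 (inv_mem hcB)
      rw [show c * x * c⁻¹ * x⁻¹ = c * (x * c⁻¹ * x⁻¹) by group]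
      exact Subgroup.mul_mem _ hcB h1
    · exact Q.mul_mem (Subgroup.Normal.conj_mem inferInstance x hx c) (Q.inv_mem hx)
  have hD2 : IsPGroup 2 D := by
    rintro ⟨g, h1, h2, h3⟩
    have h4 : g * g ∈ centralizer (Cfsg.generalizedFittingSubgroup X : Set X) := by
      refine mem_centralizer_iff.2 fun y hy => ?_
      obtain ⟨a, ha, a', ha', rfl⟩ := CfsgLib.Coprime.exists_mul_of_mem_generalizedFitting hy
      rw [CfsgLib.Coprime.fitting_eq_pCore_of_pPrimeCore_eq_bot h.core] at ha'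
      refine (Commute.mul_left (show Commute a (g * g) from mem_centralizer_iff.1 (mul_mem h1 h1) a ha) ?_).eq
      obtain ⟨w, hw⟩ : ∃ w, g * a' * g⁻¹ * a'⁻¹ = w := ⟨_, rfl⟩
      have hwW : w ∈ W := hw ▸ h3 a' ha'
      have hwg : g * w * g⁻¹ = w := by
        rw [← mem_centralizer_iff.1 h2 w hwW, mul_inv_cancel_right]
      have e1 : g * g * a' * (g * g)⁻¹ = (g * (g * a' * g⁻¹ * a'⁻¹) * g⁻¹) * (g * a' * g⁻¹ * a'⁻¹) * a' := by group
      rw [hw, hwg, h.sq w hwW.1, one_mul] at e1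
      exact (mul_inv_eq_iff_eq_mul.1 e1).symm
    have h5 : g * g ∈ Q := by
      show g * g ∈ Cfsg.pCore 2 X
      rw [← CfsgLib.Coprime.fitting_eq_pCore_of_pPrimeCore_eq_bot h.core,
        ← CfsgLib.Coprime.generalizedFitting_inf_centralizer_layer]
      exact ⟨CfsgLib.Coprime.centralizer_generalizedFitting_le h4, mul_mem h1 h1⟩
    obtain ⟨k, hk⟩ := CfsgLib.Coprime.pCore_isPGroup (G := X) 2 ⟨g * g, h5⟩
    refine ⟨k + 1, Subtype.ext ?_⟩
    show g ^ 2 ^ (k + 1) = 1
    rw [pow_succ', pow_mul, pow_two]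
    simpa using congrArg Subtype.val hk
  rw [show b = c * e by rw [hcdef, inv_mul_cancel_right]]
  exact mul_mem (mem_sup_right (CfsgLib.Coprime.le_pCore hD2 hcD)) (mem_sup_left he.2)

end Loc

end CfsgLib.Gold
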