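import Cfsg.Agent.Lib.Goldschmidt.Comp.Basic
import Cfsg.Agent.Lib.Goldschmidt.Comp.Layer
import Cfsg.Agent.Lib.Goldschmidt.Comp.Balance

/-!
# Transfer of a met component to another involution

If `y'` lies in the trace of the centralizer of a met component `K` at `y`, then the perfect cover of `K` in
`C(y')` lies modulo the core in a met component `L`: the trace of `L` contains that of `K` and the trace of its
centralizer lies in that of the centralizer of `K`.
-/

set_option autoImplicit false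
set_option linter.style.haveILetI false

namespace CfsgLib.Gold

open Subgroup
open CfsgLib.Walter.Rank (CQ proj pre mem_pre mem_pre_iff pre_le cq_core proj_eq_one_iff res res_le le_res
  commutator_res res_normalized)
open scoped commutatorElement

universe u

variable {G : Type u} [Group G] [Finite G] {S : Sylow 2 G} {A : Subgroup G}

namespace Setting

/-- The simple quotient of a met component is in the list. -/
theorem met_form (h : Setting S A) (hF : FormModelStmt.{u}) {y : G} (hy : y ∈ A) (ho : orderOf y = 2)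
    {K : Subgroup (CQ y)} (hK : IsMet A y K) : Form (K ⧸ center K) := by
  haveI := Fact.mk Nat.prime_two
  obtain ⟨P, hL⟩ := h.exists_loc hF hy ho
  obtain ⟨T, -, hne, hsq, hsc⟩ := hL.met_closed hK.1 hK.2
  haveI := hK.1.2.2
  have hle : Nat.card (K ⧸ center K) ≤ Nat.card (CQ y) :=
    (Nat.le_of_dvd Nat.card_pos (card_quotient_dvd_card _)).trans
      (Nat.le_of_dvd Nat.card_pos (card_subgroup_dvd_card K))
  refine h.sections (K ⧸ center K) inferInstance (Loc.quotient_noncomm hK.1)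
    (lt_of_le_of_lt hle (h.card_cq_lt ho)) _ _ hne (isMulCommutative_iff.2 fun a b => Subtype.ext ?_) hsc
  have h1 := hsq _ (mul_mem a.2 b.2)
  rw [mul_eq_one_iff_eq_inv, mul_inv_rev, inv_eq_of_mul_eq_one_right (hsq _ a.2),
    inv_eq_of_mul_eq_one_right (hsq _ b.2)] at h1
  exact h1

/-- The perfect cover in `C(y')` of a component at `y`. -/
theorem exists_cover (h : Setting S A) {y : G} (hy : y ∈ A) {K : Subgroup (CQ y)} (hK : Cfsg.IsComponent K)
    {y' : G} (hy' : y' ∈ RK A y K) :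
    (∀ k ∈ K, ∃ a ∈ res (pre y K ⊓ centralizer ({y'} : Set G)), ∃ hc : a ∈ centralizer ({y} : Set G),
        proj y ⟨a, hc⟩ = k) ∧
      VK A y K ≤ res (pre y K ⊓ centralizer ({y'} : Set G)) := by
  haveI : Fact (Nat.Prime 2) := ⟨Nat.prime_two⟩
  set C := centralizer ({y} : Set G)
  set C' := centralizer ({y'} : Set G)
  set O := Cfsg.centralizerPPrimeCore 2 y
  set M := pre y K ⊓ C'
  have hOodd : ¬ 2 ∣ Nat.card O := by
    rw [show O = (Cfsg.pPrimeCore 2 C).map C.subtype from rfl, card_map_of_injective C.subtype_injective]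
    exact CfsgLib.Coprime.pPrimeCore_not_dvd Nat.prime_two
  have hy'c : y' ∈ C := h.mem_centralizer hy hy'.2
  have hy'K : proj y ⟨y', hy'c⟩ ∈ centralizer (K : Set (CQ y)) := (h.mem_RK hy hy'.2).1 hy'
  have hMK : ∀ k ∈ K, ∃ a ∈ M.subgroupOf C, proj y a = k := by
    intro k hk
    obtain ⟨j, rfl⟩ := QuotientGroup.mk'_surjective _ k
    have hO2 : (Nat.card (Cfsg.pPrimeCore 2 C)).Coprime 2 := CfsgLib.Coprime.pPrimeCore_coprime Nat.prime_two
    haveI := CfsgLib.Coprime.pPrimeCore_characteristic (G := C) 2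
    obtain ⟨o, ho', hc⟩ := CfsgLib.Coprime.exists_mul_mem_centralizer (S := zpowers (⟨y', hy'c⟩ : C)) (j := j)
      hO2 (CfsgLib.Coprime.isPGroup_zpowers (k := 1) (Subtype.ext (by
        rw [pow_one, pow_two]
        exact h.sq y' hy'.2)))
      (by rw [normalizer_eq_top]; exact le_top)
      fun s hs => by
        obtain ⟨i, rfl⟩ := mem_zpowers_iff.1 hs
        have hc : Commute (proj y j) (proj y (⟨y', hy'c⟩ : C) ^ i) :=
          Commute.zpow_right (mem_centralizer_iff.1 hy'K _ hk) i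
        refine (QuotientGroup.eq_one_iff _).1 ?_
        show proj y (j * (⟨y', hy'c⟩ : C) ^ i * j⁻¹ * ((⟨y', hy'c⟩ : C) ^ i)⁻¹) = 1
        rw [map_mul, map_mul, map_mul, map_inv, map_inv, map_zpow, hc.eq, mul_inv_cancel_right, mul_inv_cancel]
    have he : proj y (o * j) = proj y j := by
      rw [map_mul, show proj y o = 1 from (QuotientGroup.eq_one_iff o).2 ho', one_mul]
    refine ⟨o * j, mem_subgroupOf.2 ⟨(mem_pre_iff (o * j).2).2 ?_, ?_⟩, he⟩
    · show proj y (o * j) ∈ K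
      rw [he]
      exact hk
    · exact mem_centralizer_singleton_iff.2
        (congrArg Subtype.val (mem_centralizer_iff.1 hc (⟨y', hy'c⟩ : C) (mem_zpowers _))).symm
  obtain ⟨C₁, hC₁, hC₁p, hC₁K⟩ := CfsgLib.Coprime.exists_perfect_le (proj y) (C := M.subgroupOf C)
    (CfsgLib.Coprime.commutator_self_of_isComponent hK) fun k hk => hMK k hk
  have hle : C₁.map C.subtype ≤ res M := le_res (by rintro _ ⟨a, ha, rfl⟩; exact mem_subgroupOf.1 (hC₁ ha))
    ((map_commutator _ _ _).symm.trans (congrArg _ hC₁p))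
  refine ⟨fun k hk => ?_, fun v hv => ?_⟩
  · obtain ⟨a, ha, rfl⟩ := hC₁K.ge hk
    exact ⟨a, hle (mem_map_of_mem _ ha), a.2, rfl⟩
  have hvM : v ∈ M := ⟨hv.1, h.mem_centralizer hy'.2 hv.2⟩
  haveI : ((res M).subgroupOf M).Normal :=
    (normal_subgroupOf_iff_le_normalizer (res_le M)).2 (res_normalized M)
  have hodd := CfsgLib.Walter.Rank.odd_index_of_cover (res_normalized M) (res_le M) hOodd fun a ha => by
    obtain ⟨hac, haK⟩ := mem_pre.1 ha.1
    obtain ⟨b, hb, hbe⟩ := hC₁K.ge haK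
    refine ⟨b, hle (mem_map_of_mem _ hb), ?_⟩
    refine (proj_eq_one_iff (mul_mem (inv_mem b.2) hac)).1 ?_
    rw [show (⟨(b : G)⁻¹ * a, _⟩ : C) = b⁻¹ * ⟨a, hac⟩ from rfl, map_mul, map_inv, hbe, inv_mul_cancel]
  have hv2 : (QuotientGroup.mk' ((res M).subgroupOf M) ⟨v, hvM⟩) ^ 2 = 1 := by
    rw [← map_pow, show (⟨v, hvM⟩ : M) ^ 2 = 1 from Subtype.ext (by
      rw [pow_two]; exact h.sq v hv.2), map_one]
  rcases (Nat.dvd_prime Nat.prime_two).1 (orderOf_dvd_of_pow_eq_one hv2) with h2 | h2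
  · exact mem_subgroupOf.1 ((QuotientGroup.eq_one_iff _).1 (orderOf_eq_one_iff.1 h2))
  · refine absurd ?_ hodd
    rw [relIndex, index_eq_card, ← h2]
    exact orderOf_dvd_natCard _

/-- Transfer of a met component. -/
theorem exists_transfer (h : Setting S A) (hF : FormModelStmt.{u}) {y : G} (hy : y ∈ A) (ho : orderOf y = 2)
    {K : Subgroup (CQ y)} (hK : IsMet A y K) {y' : G} (hy' : y' ∈ RK A y K) (ho' : orderOf y' = 2) :
    ∃ L : Subgroup (CQ y'), IsMet A y' L ∧ VK A y K ≤ VK A y' L ∧ RK A y' L ≤ RK A y K ∧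
      RK A y K ⊓ VK A y K ≤ RK A y' L := by
  haveI : Fact (Nat.Prime 2) := ⟨Nat.prime_two⟩
  have hy'A : y' ∈ A := hy'.2
  obtain ⟨hcov, hVJ⟩ := h.exists_cover hy hK.1 hy'
  set C := centralizer ({y} : Set G) with hC
  set C' := centralizer ({y'} : Set G) with hC'
  set J₀ := res (pre y K ⊓ C') with hJ₀
  have hJ₀p : ⁅J₀, J₀⁆ = J₀ := commutator_res _
  have hJ₀K : J₀ ≤ pre y K := (res_le _).trans inf_le_left
  have hJ₀C' : J₀ ≤ C' := (res_le _).trans inf_le_right
  set D := C ⊓ C' with hD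
  let f : D →* CQ y' := (proj y').comp (inclusion (inf_le_right : D ≤ C'))
  let g : D →* CQ y := (proj y).comp (inclusion (inf_le_left : D ≤ C))
  have hJ₀D : J₀ ≤ D := le_inf (hJ₀K.trans (pre_le y K)) hJ₀C'
  have hAD : ∀ a ∈ A, a ∈ D := fun a ha => ⟨h.mem_centralizer hy ha, h.mem_centralizer hy'A ha⟩
  set J₁ := J₀.subgroupOf D with hJ₁
  have hperf : commutator J₁ = ⊤ := by
    refine map_injective J₁.subtype_injective ?_
    rw [map_subtype_commutator, ← MonoidHom.range_eq_map, range_subtype]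
    refine map_injective D.subtype_injective ?_
    rw [map_commutator, hJ₁, map_subgroupOf_eq_of_le hJ₀D, hJ₀p]
  let γ : J₁ →* K := (g.comp J₁.subtype).codRestrict K fun a => (mem_pre_iff a.1.2.1).1 (hJ₀K a.2)
  have hγ : Function.Surjective γ := fun k => by
    obtain ⟨a, ha, hc, e⟩ := hcov k k.2
    exact ⟨⟨⟨a, hJ₀D ha⟩, ha⟩, Subtype.ext e⟩
  have hγodd : ¬ 2 ∣ Nat.card γ.ker := by
    set O := Cfsg.centralizerPPrimeCore 2 y
    have hOodd : ¬ 2 ∣ Nat.card O := by
      rw [show O = (Cfsg.pPrimeCore 2 C).map C.subtype from rfl, card_map_of_injective C.subtype_injective]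
      exact CfsgLib.Coprime.pPrimeCore_not_dvd Nat.prime_two
    refine fun h2 => hOodd (h2.trans ?_)
    rw [← card_map_of_injective (f := D.subtype.comp J₁.subtype)
      (D.subtype_injective.comp J₁.subtype_injective)]
    refine card_dvd_of_le ?_
    rintro _ ⟨a, ha, rfl⟩
    exact (proj_eq_one_iff a.1.2.1).1 (congrArg Subtype.val (MonoidHom.mem_ker.1 ha))
  have hnc := fun (N : Subgroup J₁) (hN : N.Normal) =>
    haveI := hN
    normal_cases hK.1.2 hperf γ hγ hγodd N
  -- the element of `V` outside `R`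
  obtain ⟨w₀, hw₀, hw₀R⟩ : ∃ v ∈ VK A y K, v ∉ RK A y K := by
    by_contra hc
    push Not at hc
    refine h.RK_ne_top hy hK.2 ?_
    rw [← sup_eq_left.2 (show VK A y K ≤ RK A y K from hc)]
    exact h.RK_sup_VK hF hy ho hK.1
  obtain ⟨P', hL'⟩ := h.exists_loc hF hy'A ho'
  set x := f ⟨y, hAD y hy⟩ with hx
  have hxB : x ∈ img A y' := h.proj_mem_img hy'A hy
  set φ : J₁ →* CQ y' := f.comp J₁.subtype with hφ
  have hcomm : ∀ a : J₁, Commute (φ a) x := fun a =>
    (show Commute (a : D) ⟨y, hAD y hy⟩ from Subtype.ext (mem_centralizer_singleton_iff.1 a.1.2.1)).map f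
  let f' : D →* centralizer ({x} : Set (CQ y')) := f.codRestrict _ fun a => mem_centralizer_singleton_iff.2
    (((show Commute a ⟨y, hAD y hy⟩ from Subtype.ext (mem_centralizer_singleton_iff.1 a.2.1)).map f).eq)
  have hf' : Function.Surjective f' := by
    rintro ⟨u, hu⟩
    obtain ⟨j, rfl⟩ := QuotientGroup.mk'_surjective _ u
    haveI := CfsgLib.Coprime.pPrimeCore_characteristic (G := C') 2
    have hyc : y ∈ C' := (hAD y hy).2
    obtain ⟨o, ho₁, hc⟩ := CfsgLib.Coprime.exists_mul_mem_centralizer (S := zpowers (⟨y, hyc⟩ : C'))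
      (j := j) (CfsgLib.Coprime.pPrimeCore_coprime (G := C') Nat.prime_two)
      (CfsgLib.Coprime.isPGroup_zpowers (k := 1) (Subtype.ext (by rw [pow_one, pow_two]; exact h.sq y hy)))
      (by rw [normalizer_eq_top]; exact le_top)
      fun s hs => by
        obtain ⟨i, rfl⟩ := mem_zpowers_iff.1 hs
        have hc : Commute (proj y' j) (proj y' (⟨y, hyc⟩ : C') ^ i) :=
          Commute.zpow_right (mem_centralizer_singleton_iff.1 hu) i
        refine (QuotientGroup.eq_one_iff _).1 ?_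
        show proj y' (j * (⟨y, hyc⟩ : C') ^ i * j⁻¹ * ((⟨y, hyc⟩ : C') ^ i)⁻¹) = 1
        rw [map_mul, map_mul, map_mul, map_inv, map_inv, map_zpow, hc.eq, mul_inv_cancel_right, mul_inv_cancel]
    have hoC : ((o * j : C') : G) ∈ C := mem_centralizer_singleton_iff.2
      (congrArg Subtype.val (mem_centralizer_iff.1 hc (⟨y, hyc⟩ : C') (mem_zpowers _))).symm
    refine ⟨⟨((o * j : C') : G), hoC, (o * j).2⟩, Subtype.ext ?_⟩
    show proj y' (o * j) = proj y' j
    rw [map_mul, show proj y' o = 1 from (QuotientGroup.eq_one_iff o).2 ho₁, one_mul]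
  have hsn' : (J₁.map f').IsSubnormal := by
    refine IsSubnormal.map hf' (IsSubnormal.trans (K := K.comap g) ?_ ?_ (hK.1.1.comap g))
    · exact fun a ha => (mem_pre_iff a.2.1).1 (hJ₀K ha)
    · refine Normal.isSubnormal ⟨fun n hn a => ?_⟩
      have haM : ((a : D) : G) ∈ pre y K ⊓ C' := ⟨(mem_pre_iff a.1.2.1).2 a.2, a.1.2.2⟩
      exact mem_subgroupOf.2 ((Subgroup.mem_normalizer_iff.1 (res_normalized _ haM) ((n : D) : G)).1
        (mem_subgroupOf.1 hn))
  have hrange : (f'.comp J₁.subtype).range = J₁.map f' := by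
    rw [MonoidHom.range_comp, range_subtype]
  have hφeq : φ.range = (f'.comp J₁.subtype).range.map (centralizer ({x} : Set (CQ y'))).subtype := by
    rw [MonoidHom.map_range]
    rfl
  have hsn : (φ.range.subgroupOf (centralizer ({x} : Set (CQ y')))).IsSubnormal := by
    rw [hφeq, subgroupOf, comap_map_eq_self_of_injective (Subgroup.subtype_injective _), hrange]
    exact hsn'
  have hlayer : φ.range ≤ Cfsg.layer (CQ y') := by
    rw [hφeq]
    refine range_le_layer (cq_core y') ?_ (f'.comp J₁.subtype) hperf (hrange ▸ hsn') fun N hN => ?_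
    · exact hL'.sq x hxB
    · exact (hnc N hN).imp_right fun h3 => h3.2.2
  have hne : φ.range ≠ ⊥ := fun e => hw₀R <| by
    have h1 : φ ⟨⟨w₀, hAD w₀ hw₀.2⟩, hVJ hw₀⟩ ∈ φ.range := ⟨_, rfl⟩
    rw [e, Subgroup.mem_bot] at h1
    rw [h.eq_one_of_proj hw₀.2 (hAD w₀ hw₀.2).2 h1]
    exact one_mem _
  obtain ⟨L, hL, hm, hJL, hodd, hcen⟩ := hL'.cover_le (fun L hL hm => h.met_form hF hy'A ho' ⟨hL, hm⟩) hxB φ
    hperf hcomm hsn hlayer hne (fun N hN => (hnc N hN).imp_right fun h3 => h3.2.1)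
    (w := ⟨⟨w₀, hAD w₀ hw₀.2⟩, hVJ hw₀⟩) (h.proj_mem_img hy'A hw₀.2) (fun N hN hwN => by
      refine (hnc N hN).resolve_right fun h3 => hw₀R ?_
      exact (h.mem_inf_of_center hy hw₀.2 (h3.1 (mem_map_of_mem γ hwN)) rfl).1)
  refine ⟨L, ⟨hL, hm⟩, fun v hv => ?_, fun r hr => ?_, fun z hz => ?_⟩
  · exact (h.mem_VK hy'A hv.2).2 (hJL ⟨⟨⟨v, hAD v hv.2⟩, hVJ hv⟩, rfl⟩)
  · -- `R' ≤ R`
    have hrA := hr.2
    set rD : D := ⟨r, hAD r hrA⟩
    set O₁ := (((Cfsg.pPrimeCore 2 C').comap (inclusion (inf_le_right : D ≤ C'))).map g) with hO₁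
    have hO₁odd : ¬ 2 ∣ Nat.card O₁ := fun h2 => by
      refine CfsgLib.Coprime.pPrimeCore_not_dvd (G := C') Nat.prime_two (h2.trans ?_)
      refine (card_map_dvd _ g).trans ?_
      rw [← card_map_of_injective (inclusion_injective (inf_le_right : D ≤ C'))]
      exact card_dvd_of_le (map_comap_le _ _)
    have hO₁n : K ≤ normalizer (O₁ : Set (CQ y)) := fun k hk => by
      obtain ⟨a, ha, hc, rfl⟩ := hcov k hk
      refine mem_normalizer_fintype ?_
      rintro _ ⟨b, hb, rfl⟩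
      haveI := CfsgLib.Coprime.pPrimeCore_characteristic (G := C') 2
      refine ⟨⟨a, hJ₀D ha⟩ * b * ⟨a, hJ₀D ha⟩⁻¹, ?_, ?_⟩
      · show inclusion _ (_ * b * _) ∈ Cfsg.pPrimeCore 2 C'
        rw [map_mul, map_mul, map_inv]
        exact Subgroup.Normal.conj_mem (inferInstance : (Cfsg.pPrimeCore 2 C').Normal) _ (mem_comap.1 hb) _
      · rw [map_mul, map_mul, map_inv]
        rfl
    have hO₁K : O₁ ⊓ K = ⊥ := by
      refine le_bot_iff.1 (cq_core y ▸ CfsgLib.Coprime.le_pPrimeCore_of_isSubnormal Nat.prime_two ?_ ?_)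
      · exact IsSubnormal.trans inf_le_right (Normal.isSubnormal ((normal_subgroupOf_iff_le_normalizer
          inf_le_right).2 (CfsgLib.Coprime.inf_le_normalizer hO₁n le_normalizer))) hK.1.1
      · exact (Nat.coprime_comm.1 (Nat.prime_two.coprime_iff_not_dvd.2 fun h2 =>
          hO₁odd (h2.trans (card_dvd_of_le inf_le_left))))
    refine (h.mem_RK hy hrA).2 (mem_centralizer_iff.2 fun k hk => ?_)
    obtain ⟨a, ha, hc, rfl⟩ := hcov k hk
    set aD : D := ⟨a, hJ₀D ha⟩
    have h1 : g (rD * aD * rD⁻¹ * aD⁻¹) ∈ O₁ ⊓ K := by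
      refine ⟨⟨_, ?_, rfl⟩, ?_⟩
      · show inclusion _ (rD * aD * rD⁻¹ * aD⁻¹) ∈ Cfsg.pPrimeCore 2 C'
        rw [← QuotientGroup.eq_one_iff]
        show f (rD * aD * rD⁻¹ * aD⁻¹) = 1
        have hcom : f aD * f rD = f rD * f aD :=
          mem_centralizer_iff.1 ((h.mem_RK hy'A hrA).1 hr) (f aD) (hJL ⟨⟨aD, ha⟩, rfl⟩)
        rw [map_mul, map_mul, map_mul, map_inv, map_inv, ← hcom, mul_inv_cancel_right, mul_inv_cancel]
      · obtain ⟨P, hLy⟩ := h.exists_loc hF hy ho
        have hn : g rD ∈ normalizer (K : Set (CQ y)) := hLy.normalizes hK.1 (h.proj_mem_img hy hrA)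
        rw [map_mul, map_mul, map_mul, map_inv, map_inv]
        exact Subgroup.mul_mem _ ((Subgroup.mem_normalizer_iff.1 hn (g aD)).1 hk) (Subgroup.inv_mem _ hk)
    rw [hO₁K, Subgroup.mem_bot, map_mul, map_mul, map_mul, map_inv, map_inv, mul_inv_eq_one,
      mul_inv_eq_iff_eq_mul] at h1
    exact h1.symm
  · -- `R ⊓ V ≤ R'`
    set zJ : J₁ := ⟨⟨z, hAD z hz.2.2⟩, hVJ hz.2⟩
    refine (h.mem_RK hy'A hz.2.2).2 (hcen zJ fun b => ?_)
    have h1 : φ ⁅zJ, b⁆ = 1 := by
      refine Subgroup.mem_bot.1 (hodd γ.ker inferInstance hγodd ▸ mem_map_of_mem φ ?_)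
      rw [MonoidHom.mem_ker, map_commutatorElement, commutatorElement_eq_one_iff_mul_comm]
      exact (mem_center_iff.1 (h.inf_mem_center hy hz.1 hz.2) (γ b)).symm
    rw [map_commutatorElement, commutatorElement_eq_one_iff_mul_comm] at h1
    exact h1

end Setting

end CfsgLib.Gold
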